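import Cfsg.Agent.PQ.Mn.Nw

/-!
# PQ theta, box MAIN: supports of the fermions, the bilinear operators (helper22)
-/

set_option autoImplicit false
set_option linter.unusedSectionVars false

namespace Cfsg.Agent.PQ.Mn

open Module Cfsg.Agent.PQ.Th Cfsg.Agent.PQ.Rel
open scoped ComplexConjugate

attribute [local instance] Loc.fI Loc.dI

variable {V : Type} [AddCommGroup V] [Module ℂ V] {H : HS V}

theorem df_smul {A : End ℂ V} {d : ZMod 4} (h : Df H A d) (c : ℂ) : Df H (c • A) d :=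
  fun n u hu => Submodule.smul_mem _ c (h n u hu)

theorem df_add {A B : End ℂ V} {d : ZMod 4} (h : Df H A d) (h' : Df H B d) : Df H (A + B) d :=
  fun n u hu => add_mem (h n u hu) (h' n u hu)

theorem J_gr : Gr H H.J 0 := Gr.of fun i => by
  rw [J_apply (b_cmp i), add_zero]; split_ifs
  exacts [b_gr i, neg_mem (b_gr i)]

theorem inv_hom {u : ℕ → End ℂ V} (hg : ∀ j, Gr H (u j) (-j)) (hd : ∀ j, Df H (u j) 0) (n : ℕ) :
    Gr H (inv u n) (-n) ∧ Df H (inv u n) 0 := by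
  induction n using Nat.strong_induction_on with
  | _ n ih =>
    cases n with
    | zero => rw [inv]; exact ⟨Gr.one.cast (by simp), Df.one⟩
    | succ n =>
      rw [inv]
      refine ⟨(Gr.sum _ fun i _ => ?_).neg, (Df.sum _ fun i _ => ?_).neg⟩
      · exact ((hg _).mul (ih _ (by omega)).1).cast (by have := i.2; push_cast [Nat.cast_sub (Nat.lt_succ_iff.1 this)]; ring)
      · exact ((hd _).mul (ih _ (by omega)).2).cast (add_zero _)

variable (C : Cyc H)

theorem hs_gr (j : ℕ) : Gr H (C.hs j) (-j) := adj_gr (C.h_adj j) (hom_gr (C.h_hom j))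

theorem hs_df (j : ℕ) : Df H (C.hs j) 0 := (adj_df (C.h_adj j) (hom_df (C.h_hom j))).cast neg_zero

theorem L_gr (d : ℤ) : Gr H (C.L d) d := by
  have := adj_gr (C.R_adj (-d)) (hom_gr (C.R_hom (-d)))
  rwa [neg_neg] at this

theorem L_df (d : ℤ) : Df H (C.L d) (-1) := by
  have := adj_df (C.R_adj (-d)) (hom_df (C.R_hom (-d)))
  rwa [neg_neg] at this

theorem X_hom {A : ℤ → End ℂ V} {s : ZMod 4} (hg : ∀ d, Gr H (A d) d) (hd : ∀ d, Df H (A d) s) (d : ℤ) :
    Gr H (C.X A d) d ∧ Df H (C.X A d) s := by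
  have hi := inv_hom (hs_gr C) (hs_df C)
  refine ⟨Gr.of fun i => ?_, Df.of fun i => ?_⟩
  · rw [Cyc.X, mk_b]
    refine sum_mem fun j _ => ?_
    exact (((hg (d + j)).mul (hi j).1).cast (by ring) : Gr H _ d) _ _ (b_gr i)
  · rw [Cyc.X, mk_b]
    refine sum_mem fun j _ => ?_
    exact (((hd (d + j)).mul (hi j).2).cast (by ring) : Df H _ s) _ _ (b_cmp i)

theorem X_zero (A : ℤ → End ℂ V) (d : ℤ) {u : V} (hu : u ∈ H.gr 0) : C.X A d u = A d u := ext_sup (fun i hi => by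
  have : H.rk i = 0 := by exact_mod_cast hi
  rw [Cyc.X, mk_b, this, Finset.sum_range_one, inv]
  simp) hu

theorem mv_single (s : ℤ) (A : ℤ → End ℂ V) (M : ℤ) (u : V) : mv s A (Finsupp.single M u) = Finsupp.single (M + s) (A M u) := by
  simp [mv]

open Classical in
theorem up_single (A : ℤ → End ℂ V) (x M : ℤ) {D : ZMod 4} {u : V} (hu : u ∈ H.cmp D) :
    Cyc.up (H := H) A x (Finsupp.single M u) = Finsupp.single (M + if Od D then 1 else 0) (A (x - M) u) := by
  rw [Cyc.up, LinearMap.add_apply, mv_single, mv_single, End.mul_apply, End.mul_apply, po_apply hu, pe_apply hu]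
  split_ifs <;> simp

/-- the support of a creation operator -/
def Rs (H : HS V) (c : Site) (y y' : H.fock.ι) : Prop :=
  y.1 ≤ y'.1 ∧ (H.rk y'.2 : ℤ) = H.rk y.2 + (c.2 - y.1) ∧ H.df y'.2 = H.df y.2 + if c.1 then -1 else 1

theorem single_sup {M : ℤ} {u : V} {n : ℤ} {D : ZMod 4} (h1 : u ∈ H.gr n) (h2 : u ∈ H.cmp D) :
    Finsupp.single M u ∈ H.fock.sup fun y => y.1 = M ∧ (H.rk y.2 : ℤ) = n ∧ H.df y.2 = D := by
  rintro ⟨N, i⟩ hy
  rw [fock_repr]
  by_cases e : N = M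
  · subst e
    rw [Finsupp.single_eq_same]
    by_cases e1 : (H.rk i : ℤ) = n
    · exact h2 i fun e2 => hy ⟨rfl, e1, e2⟩
    · exact h1 i e1
  · rw [Finsupp.single_eq_of_ne e]; simp

theorem ps_sup (c : Site) (y : H.fock.ι) : C.ps c (H.fock.b y) ∈ H.fock.sup (Rs H c y) := by
  obtain ⟨M, i⟩ := y
  obtain ⟨r, x⟩ := c
  rw [fock_b]
  cases r
  · have hx := X_hom C (fun d => hom_gr (C.R_hom d)) (fun d => hom_df (C.R_hom d)) (x - M)
    simp only [Cyc.ps, Bool.false_eq_true, if_false]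
    rw [up_single _ _ _ (b_cmp i)]
    refine sup_mono ?_ (single_sup (hx.1 _ _ (b_gr i)) (hx.2 _ _ (b_cmp i)))
    rintro ⟨N, j⟩ ⟨h1, h2, h3⟩
    refine ⟨?_, h2, h3⟩
    simp only at h1 ⊢
    split_ifs at h1 <;> omega
  · have hx := X_hom C (L_gr C) (L_df C) (x - M)
    simp only [Cyc.ps, if_true]
    rw [up_single _ _ _ (b_cmp i)]
    refine sup_mono ?_ (single_sup ((hx.1.mul J_gr) _ _ (b_gr i)) ((hx.2.mul J_df) _ _ (b_cmp i)))
    rintro ⟨N, j⟩ ⟨h1, h2, h3⟩
    rw [zero_add] at h2 h3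
    refine ⟨?_, h2, h3⟩
    simp only at h1 ⊢
    split_ifs at h1 <;> omega

variable {C}

theorem pt_sup (hc : CAR C) (c : Site) (y : H.fock.ι) : C.pt c (H.fock.b y) ∈ H.fock.sup fun y' => Rs H c y' y :=
  fun y' hy => by
    have := ps_sup C c y' y hy
    rw [adj_repr (hc.adj c)] at this
    simpa using this

theorem span_ind {G : HS V} {p : V → Prop} (h0 : p 0) (hb : ∀ i, p (G.b i)) (ha : ∀ u v, p u → p v → p (u + v))
    (hs : ∀ (c : ℂ) u, p u → p (c • u)) (u : V) : p u := by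
  have hu : u ∈ Submodule.span ℂ (Set.range G.b) := G.b.mem_span u
  induction hu using Submodule.span_induction with
  | zero => exact h0
  | add x y _ _ h1 h2 => exact ha _ _ h1 h2
  | smul c x _ h1 => exact hs _ _ h1
  | mem x hx => obtain ⟨i, rfl⟩ := hx; exact hb i

theorem exists_bound (hc : CAR C) (U : ℤ →₀ V) :
    ∃ x₀ x₁ : ℤ, (∀ c : Site, x₀ ≤ c.2 → C.pt c U = 0) ∧ ∀ c : Site, c.2 ≤ x₁ → C.ps c U = 0 := by
  induction U using span_ind (G := H.fock) with
  | h0 => exact ⟨0, 0, fun _ _ => map_zero _, fun _ _ => map_zero _⟩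
  | hb y =>
    refine ⟨H.rk y.2 + y.1 + 1, y.1 - H.rk y.2 - 1, fun c h => ?_, fun c h => ?_⟩
    · exact eq_zero_of_sup (fun y' hy _ => by have := hy.1; have := hy.2.1; omega) (pt_sup hc c y) (pt_sup hc c y)
    · exact eq_zero_of_sup (fun y' hy _ => by have := hy.2.1; omega) (ps_sup C c y) (ps_sup C c y)
  | ha u v h1 h2 =>
    obtain ⟨a, b, h1, h1'⟩ := h1
    obtain ⟨a', b', h2, h2'⟩ := h2
    refine ⟨max a a', min b b', fun c h => ?_, fun c h => ?_⟩
    · rw [map_add, h1 c (by omega), h2 c (by omega), add_zero]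
    · rw [map_add, h1' c (by omega), h2' c (by omega), add_zero]
  | hs z u h1 =>
    obtain ⟨a, b, h1, h1'⟩ := h1
    exact ⟨a, b, fun c h => by rw [map_smul, h1 c h, smul_zero], fun c h => by rw [map_smul, h1' c h, smul_zero]⟩

theorem st_ne (hc : CAR C) {c c' : Site} (h : c ≠ c') (U : ℤ →₀ V) : C.ps c (C.pt c' U) = -C.pt c' (C.ps c U) := by
  have := LinearMap.congr_fun (hc.st c c') U
  rw [if_neg h] at this
  exact eq_neg_of_add_eq_zero_left this

/-- the bilinear operators -/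
noncomputable def bo (C : Cyc H) (S : Set Site) (f g : Site → Site) : End ℂ (ℤ →₀ V) :=
  H.fock.mk' fun x => ∑ᶠ c ∈ S, C.ps (f c) (C.pt (g c) (H.fock.b x))

/-- a pair of shifts -/
structure Sh (f g : Site → Site) (s t : ℤ) : Prop where
  ne : ∀ c, f c ≠ g c
  hf : ∀ c, (f c).2 = c.2 + s
  hg : ∀ c, (g c).2 = c.2 + t

variable {f g : Site → Site} {s t : ℤ}

theorem bo_fin (hc : CAR C) (h : Sh f g s t) (S : Set Site) (U : ℤ →₀ V) :
    (S ∩ Function.support fun c => C.ps (f c) (C.pt (g c) U)).Finite := by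
  obtain ⟨a, b, h1, h2⟩ := exists_bound hc U
  refine ((Set.finite_univ (α := Bool)).prod (Set.finite_Ioo (b - s) (a - t))).subset fun c hc' => ⟨trivial, ?_, ?_⟩
  · by_contra e
    exact hc'.2 (by beta_reduce; rw [st_ne hc (h.ne c), h2 _ (by rw [h.hf]; omega), map_zero, neg_zero])
  · by_contra e
    exact hc'.2 (by beta_reduce; rw [h1 _ (by rw [h.hg]; omega), map_zero])

theorem map_fs {A : End ℂ (ℤ →₀ V)} {S : Set Site} {F : Site → ℤ →₀ V} (h : (S ∩ Function.support F).Finite) :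
    A (∑ᶠ c ∈ S, F c) = ∑ᶠ c ∈ S, A (F c) := A.toAddMonoidHom.map_finsum_mem' h

theorem bo_apply (hc : CAR C) (h : Sh f g s t) (S : Set Site) (U : ℤ →₀ V) :
    bo C S f g U = ∑ᶠ c ∈ S, C.ps (f c) (C.pt (g c) U) := by
  induction U using span_ind (G := H.fock) with
  | h0 => simp
  | hb y => rw [bo, mk_b]
  | ha u v h1 h2 =>
    rw [map_add, h1, h2, ← finsum_mem_add_distrib' (bo_fin hc h S u) (bo_fin hc h S v)]
    simp only [map_add]
  | hs z u h1 =>
    rw [map_smul, h1]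
    have := map_fs (A := z • (1 : End ℂ (ℤ →₀ V))) (bo_fin hc h S u)
    simpa only [LinearMap.smul_apply, End.one_apply, map_smul] using this

theorem bo_comm (hc : CAR C) (h : Sh f g s t) (S : Set Site) {Y : End ℂ (ℤ →₀ V)} (h1 : ∀ c, Commute Y (C.ps c))
    (h2 : ∀ c, Commute Y (C.pt c)) : Commute Y (bo C S f g) := LinearMap.ext fun U => by
  rw [End.mul_apply, End.mul_apply, bo_apply hc h, bo_apply hc h, map_fs (bo_fin hc h S U)]
  refine finsum_congr fun c => finsum_congr fun _ => ?_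
  exact LinearMap.congr_fun ((h1 (f c)).mul_right (h2 (g c))).eq U

theorem bo_mem (hc : CAR C) (h : Sh f g s t) (S : Set Site) {U : ℤ →₀ V} {T : Submodule ℂ (ℤ →₀ V)}
    (hT : ∀ c ∈ S, C.ps (f c) (C.pt (g c) U) ∈ T) : bo C S f g U ∈ T := by
  rw [bo_apply hc h]
  exact finsum_mem_induction (· ∈ T) (zero_mem _) (fun _ _ => add_mem) hT

theorem st_sup (hc : CAR C) (c c' : Site) (y : H.fock.ι) : C.ps c (C.pt c' (H.fock.b y)) ∈ H.fock.sup fun y' =>
    (H.rk y'.2 : ℤ) = H.rk y.2 + (c.2 - c'.2) ∧ H.df y'.2 = H.df y.2 + if c.1 = c'.1 then 0 else 2 := by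
  refine map_sup (fun z hz => sup_mono (fun y' hy => ⟨?_, ?_⟩) (ps_sup C c z)) (pt_sup hc c' y)
  · have := hz.2.1; have := hy.2.1; omega
  · rw [hy.2.2, hz.2.2, add_assoc]
    congr 1
    cases c.1 <;> cases c'.1 <;> decide

variable (P : Loc C)

theorem sh_aa {j : ℕ} (hj : 0 < j) : Sh (P.sig j) id (P.k * j) 0 where
  ne c e := by
    have h1 : c.2 + P.k * j = c.2 := congrArg Prod.snd e
    have := Nat.mul_pos P.k_pos hj
    have h2 : (P.k : ℤ) * j = (P.k * j : ℕ) := by push_cast; rfl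
    omega
  hf _ := rfl
  hg _ := (add_zero _).symm

theorem sh_as {j : ℕ} (hj : 0 < j) : Sh id (P.sig j) 0 (P.k * j) :=
  ⟨fun c => ((sh_aa P hj).ne c).symm, (sh_aa P hj).hg, (sh_aa P hj).hf⟩

theorem aa_eq (S : Set Site) (j : ℕ) : P.aa S j = bo C S (P.sig j) id := rfl

theorem as_eq (S : Set Site) (j : ℕ) : P.as S j = bo C S id (P.sig j) := rfl

theorem sh_if (ng : Bool) (j : ℕ) : sh ng j = if ng = true ∧ Odd j then 2 else 0 := by
  rcases Nat.even_or_odd' j with ⟨m, rfl | rfl⟩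
  · have e : (2 : ZMod 4) * ((2 * m : ℕ) : ZMod 4) = 0 := by
      push_cast; rw [← mul_assoc, show (2 : ZMod 4) * 2 = 0 by decide, zero_mul]
    rw [sh, e, if_neg (c := _ ∧ _) fun h => Nat.not_odd_iff_even.2 (even_two_mul m) h.2, ite_self]
  · have e : (2 : ZMod 4) * ((2 * m + 1 : ℕ) : ZMod 4) = 2 := by
      push_cast; rw [mul_add, ← mul_assoc, show (2 : ZMod 4) * 2 = 0 by decide, zero_mul, zero_add, mul_one]
    rw [sh, e]
    simp

theorem sh_eq (ng r : Bool) (j : ℕ) : (if r = xor r (ng && decide (Odd j)) then (0 : ZMod 4) else 2) = sh ng j := by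
  rw [sh_if]
  by_cases h : Odd j <;> cases ng <;> cases r <;> simp [h]

theorem as_hom (hc : CAR C) (S : Set Site) {j : ℕ} (hj : 0 < j) :
    Gr H.fock (P.as S j) (-(P.k * j)) ∧ Df H.fock (P.as S j) (sh P.ng j) := by
  refine ⟨Gr.of fun y => bo_mem hc (sh_as P hj) S fun c _ => sup_mono (fun y' hy => ?_) (st_sup hc _ _ y),
    Df.of fun y => bo_mem hc (sh_as P hj) S fun c _ => sup_mono (fun y' hy => ?_) (st_sup hc _ _ y)⟩
  · have := hy.1
    simp only [Loc.sig, id] at this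
    change (H.rk y'.2 : ℤ) = H.rk y.2 + _
    omega
  · change H.df y'.2 = H.df y.2 + _
    rw [hy.2]
    congr 1
    exact sh_eq P.ng c.1 j

theorem as_vac (hc : CAR C) (S : Set Site) {j : ℕ} (hj : 0 < j) {U : ℤ →₀ V} (hU : U ∈ C.Vac) : P.as S j U = 0 := by
  refine (Submodule.mem_bot ℂ).1 (bo_mem hc (sh_as P hj) S fun c _ => (Submodule.mem_bot ℂ).2 ?_)
  by_cases h : Sea (P.sig j c)
  · have h' : Sea c := by
      have := Nat.mul_pos P.k_pos hj
      have h2 : (P.k : ℤ) * j = (P.k * j : ℕ) := by push_cast; rfl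
      have h3 : (P.sig j c).2 = c.2 + P.k * j := rfl
      unfold Sea at h ⊢
      split_ifs at h ⊢ <;> omega
    rw [st_ne hc ((sh_as P hj).ne c), id, hU.1 c h', map_zero, neg_zero]
  · rw [hU.2 _ h, map_zero]

end Cfsg.Agent.PQ.Mn
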