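import Cfsg.Agent.PQ.Mn.Fin

/-!
# PQ theta, box MAIN: labels, hats and the Heisenberg relations (helper22)
-/

set_option autoImplicit false
set_option linter.unusedSectionVars false

namespace Cfsg.Agent.PQ.Mn

open Module Cfsg.Agent.PQ.Th Cfsg.Agent.PQ.Rel
open scoped ComplexConjugate

attribute [local instance] Loc.fI Loc.dI

/-! ### labels -/

section
variable {k : ℕ} {I : Type} (A : Ar k I)

theorem tau_g (s : ℕ) (c z : ZMod (A.p ^ A.b)) : A.τ (A.g ^ s * c) z = A.τ c z := by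
  induction s with
  | zero => rw [pow_zero, one_mul]
  | succ s ih =>
    rw [← ih]
    unfold Ar.τ
    have e := (Finset.sum_range_succ (fun t => A.χ (A.g ^ s * c * A.g ^ t * z)) (2 * k)).symm.trans
      (Finset.sum_range_succ' (fun t => A.χ (A.g ^ s * c * A.g ^ t * z)) (2 * k))
    rw [A.g_pow, pow_zero] at e
    rw [add_right_cancel e]
    exact Finset.sum_congr rfl fun t _ => by congr 1; ring

theorem tau_zero (c : ZMod (A.p ^ A.b)) : A.τ c 0 = 2 * k := by simp [Ar.τ]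

theorem tau_zero' (z : ZMod (A.p ^ A.b)) : A.τ 0 z = 2 * k := by simp [Ar.τ]

theorem nz : NeZero (A.p ^ A.b) := ⟨pow_ne_zero _ A.pp.ne_zero⟩

theorem g_unit (hk : 0 < k) (s : ℕ) : A.g ^ ((2 * k - 1) * s) * A.g ^ s = 1 := by
  rw [← pow_add, ← Nat.succ_mul, show (2 * k - 1).succ = 2 * k by omega, pow_mul, A.g_pow, one_pow]

theorem sum_tau [NeZero (A.p ^ A.b)] (hk : 0 < k) (z : ZMod (A.p ^ A.b)) :
    ∑ c, A.τ c z = if z = 0 then 2 * k * (A.p : ℂ) ^ A.b else 0 := by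
  classical
  unfold Ar.τ
  rw [Finset.sum_comm]
  have e : ∀ s ∈ Finset.range (2 * k), ∑ c, A.χ (c * A.g ^ s * z) = if z = 0 then (A.p : ℂ) ^ A.b else 0 := fun s _ => by
    have := AddChar.sum_mulShift (A.g ^ s * z) A.prim
    simp only [mul_assoc]
    rw [this, ZMod.card]
    by_cases hz : z = 0
    · simp [hz]
    · rw [if_neg hz, if_neg, Nat.cast_zero]
      intro h
      exact hz (by rw [← one_mul z, ← g_unit A hk s, mul_assoc, h, mul_zero])
  rw [Finset.sum_congr rfl e, Finset.sum_const, Finset.card_range]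
  split_ifs <;> simp

theorem unit_j {j : ℕ} (h0 : 0 < j) (hj : j ≤ A.a) {z : ZMod (A.p ^ A.b)} (h : (j : ZMod (A.p ^ A.b)) * z = 0) : z = 0 := by
  have : IsUnit (j : ZMod (A.p ^ A.b)) := (ZMod.isUnit_iff_coprime _ _).2
    (Nat.Coprime.pow_right _ ((Nat.coprime_of_lt_prime h0.ne' (hj.trans_lt A.a_lt) A.pp).symm))
  exact this.mul_right_eq_zero.1 h

theorem exists_rep (hk : 0 < k) : ∃ (J : Type) (_ : Fintype J) (rep : J → ZMod (A.p ^ A.b)), (∀ i, rep i ≠ 0) ∧
    (∀ i i', (∃ s : ℕ, rep i' = A.g ^ s * rep i) ↔ i = i') ∧ ∀ c, c ≠ 0 → ∃ i, ∃ s : ℕ, c = A.g ^ s * rep i := by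
  classical
  have := nz A
  let S : Setoid {c : ZMod (A.p ^ A.b) // c ≠ 0} :=
    { r := fun c c' => ∃ s : ℕ, c'.1 = A.g ^ s * c.1
      iseqv :=
        { refl := fun c => ⟨0, by simp⟩
          symm := fun ⟨s, h⟩ => ⟨(2 * k - 1) * s, by rw [h, ← mul_assoc, g_unit A hk, one_mul]⟩
          trans := fun ⟨s, h⟩ ⟨t, h'⟩ => ⟨t + s, by rw [h', h, pow_add, mul_assoc]⟩ } }
  refine ⟨Quotient S, Fintype.ofFinite _, fun i => i.out.1, fun i => i.out.2, fun i i' => ⟨fun h => ?_, ?_⟩, fun c hc => ?_⟩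
  · exact Quotient.out_equiv_out.1 h
  · rintro rfl
    exact ⟨0, by simp⟩
  · exact ⟨Quotient.mk S ⟨c, hc⟩, Quotient.mk_out (s := S) ⟨c, hc⟩⟩

end

variable {V : Type} [AddCommGroup V] [Module ℂ V] {H : HS V}

/-! ### lifting to the Fock space -/

/-- `lf` as an algebra map -/
noncomputable def lfA : End ℂ V →ₐ[ℂ] End ℂ (ℤ →₀ V) :=
  AlgHom.ofLinearMap
    { toFun := lf
      map_add' := fun A B => Finsupp.lhom_ext fun M u => by simp [lf_single]
      map_smul' := fun c A => Finsupp.lhom_ext fun M u => by simp [lf_single] }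
    (Finsupp.lhom_ext fun M u => by simp [lf_single]) fun A B => Finsupp.lhom_ext fun M u => by simp [lf_single]

theorem lf_eq (A : End ℂ V) : lf A = lfA A := rfl

theorem single_gr {M : ℤ} {u : V} {n : ℤ} (h : u ∈ H.gr n) : Finsupp.single M u ∈ H.fock.gr n := by
  rintro ⟨N, i⟩ hy
  rw [fock_repr]
  by_cases e : N = M
  · subst e
    rw [Finsupp.single_eq_same]
    exact h i hy
  · rw [Finsupp.single_eq_of_ne e]; simp

theorem single_cmp {M : ℤ} {u : V} {D : ZMod 4} (h : u ∈ H.cmp D) : Finsupp.single M u ∈ H.fock.cmp D := by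
  rintro ⟨N, i⟩ hy
  rw [fock_repr]
  by_cases e : N = M
  · subst e
    rw [Finsupp.single_eq_same]
    exact h i hy
  · rw [Finsupp.single_eq_of_ne e]; simp

theorem lf_gr {B : End ℂ V} {d : ℤ} (h : Gr H B d) : Gr H.fock (lf B) d := Gr.of fun ⟨M, i⟩ => by
  rw [fock_b, lf_single]; exact single_gr (h _ _ (b_gr i))

theorem lf_df {B : End ℂ V} {d : ZMod 4} (h : Df H B d) : Df H.fock (lf B) d := Df.of fun ⟨M, i⟩ => by
  rw [fock_b, lf_single]; exact single_cmp (h _ _ (b_cmp i))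

theorem od_sh (ng : Bool) (j : ℕ) (a : ZMod 4) : Od (a + sh ng j) ↔ Od a := by
  rw [sh_if]; split_ifs
  exacts [od_two a, by rw [add_zero]]

theorem neg_sh (ng : Bool) (j : ℕ) : -sh ng j = sh ng j := by
  rw [sh_if]; split_ifs <;> decide

theorem sh_add (ng : Bool) (j l : ℕ) : sh ng (j + l) = sh ng j + sh ng l := by
  unfold sh; split_ifs <;> simp [mul_add]

theorem sh_zero (ng : Bool) : sh ng 0 = 0 := by simp [sh]

theorem nn_conj (ng : Bool) (q j : ℕ) : conj (nn ng q j) = nn ng q j := by simp [nn]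

theorem nn_ne (ng : Bool) {q j : ℕ} (hq : 2 ≤ q) (hj : 0 < j) : nn ng q j ≠ 0 := fun h => by
  have h1 : ((q : ℤ) ^ j - ep ng j : ℤ) = 0 := by
    unfold nn at h
    exact_mod_cast h
  have h2 : (2 : ℤ) ≤ (q : ℤ) ^ j := by exact_mod_cast hq.trans (Nat.le_self_pow hj.ne' q)
  have h3 : ep ng j ≤ 1 := by
    unfold ep
    split_ifs
    · rcases neg_one_pow_eq_or ℤ j with e | e <;> omega
    · rfl
  omega

variable {C : Cyc H} (P : Loc C)

theorem hat_comm (j : ℕ) {B : End ℂ V} {s : ZMod 4} (h : Df H B s) (hs : ∀ a, Od (a + s) ↔ Od a) : Commute (P.hat j) B := by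
  unfold Loc.hat
  split_ifs
  exacts [Commute.neg_left (J_comm h hs), Commute.one_left _]

theorem hat_apply (j : ℕ) {u : V} (h : H.J u = u ∨ H.J u = -u) : P.hat j u = u ∨ P.hat j u = -u := by
  unfold Loc.hat
  split_ifs
  · rcases h with h | h <;> simp [h]
  · exact Or.inl rfl

theorem J_or {u : V} {D : ZMod 4} (h : u ∈ H.cmp D) : H.J u = u ∨ H.J u = -u := by
  rw [J_apply h]; split_ifs <;> simp

theorem hat_gr (j : ℕ) : Gr H (P.hat j) 0 := by
  unfold Loc.hat
  split_ifs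
  exacts [J_gr.neg, Gr.one]

theorem hat_df (j : ℕ) : Df H (P.hat j) 0 := by
  unfold Loc.hat
  split_ifs
  exacts [J_df.neg, Df.one]

theorem hat_hat (j : ℕ) : P.hat j * P.hat j = 1 := by
  unfold Loc.hat
  split_ifs
  exacts [by rw [neg_mul_neg, J_J], mul_one _]

theorem Ds_gr (j : ℕ) (α : P.I → ℂ) : Gr H (P.Ds j α) (-(P.k * j)) := adj_gr (P.D_adj j α) (hom_gr (P.D_hom j α))

theorem Ds_df (j : ℕ) (α : P.I → ℂ) : Df H (P.Ds j α) (sh P.ng j) :=
  (adj_df (P.D_adj j α) (hom_df (P.D_hom j α))).cast (neg_sh _ _)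

theorem Dsh_gr (j : ℕ) (α : P.I → ℂ) : Gr H.fock (P.Dsh j α) (-(P.k * j)) :=
  lf_gr (((hat_gr P j).mul (Ds_gr P j α)).cast (add_zero _))

theorem Dsh_df (j : ℕ) (α : P.I → ℂ) : Df H.fock (P.Dsh j α) (sh P.ng j) :=
  lf_df (((hat_df P j).mul (Ds_df P j α)).cast (add_zero _))

theorem Dsh_Dh (j l : ℕ) (α β : P.I → ℂ) : P.Dsh j α * P.Dh l β = P.Dh l β * P.Dsh j α +
    (if j = l then (j : ℂ) * (∑ i with P.d i ∣ j, conj (α i) * β i * P.d i) / nn P.ng P.q₀ j else 0) • 1 := by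
  have h1 := (hat_comm P l (Ds_df P j α) (od_sh _ _)).eq
  have h2 := (hat_comm P j (hom_df (P.D_hom l β)) (od_sh _ _)).eq
  have h3 := (hat_comm P j (hat_df P l) fun a => by rw [add_zero]).eq
  have e : P.hat j * P.Ds j α * (P.hat l * P.D l β) = P.hat l * P.D l β * (P.hat j * P.Ds j α) +
      (if j = l then (j : ℂ) * (∑ i with P.d i ∣ j, conj (α i) * β i * P.d i) / nn P.ng P.q₀ j else 0) • 1 := by
    rw [mul_assoc, ← mul_assoc (P.Ds j α), ← h1, mul_assoc, P.DsD, mul_add, mul_add, ← mul_assoc, ← mul_assoc, h3,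
      mul_assoc (P.hat l), h2, ← mul_assoc, mul_assoc _ (P.hat j)]
    congr 1
    split_ifs with h
    · subst h
      rw [← mul_assoc, hat_hat, one_mul]
    · simp
  simp only [Loc.Dsh, Loc.Dh, lf_eq]
  rw [← map_mul, ← map_mul, e, map_add, map_smul, map_one]

theorem Dsh_Om {j : ℕ} (hj : 0 < j) (α : P.I → ℂ) : P.Dsh j α C.Om = 0 := by
  have := Nat.mul_pos P.k_pos hj
  have h2 : (P.k : ℤ) * j = (P.k * j : ℕ) := by push_cast; rfl
  exact (Dsh_gr P j α).kill (single_gr (b_gr C.o)) (by rw [C.o_rk]; omega)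

theorem sig_sig (j l : ℕ) (c : Site) : P.sig j (P.sig l c) = P.sig (l + j) c := by
  refine Prod.ext ?_ (by simp only [Loc.sig]; push_cast; ring)
  simp only [Loc.sig]
  generalize P.ng = ng
  by_cases h : Odd j <;> by_cases h' : Odd l <;> cases ng <;> cases c.1 <;>
    simp [h, h', Nat.odd_add, ← Nat.not_odd_iff_even]

/-- the inverse shift -/
def sgi (j : ℕ) (c : Site) : Site := (xor c.1 (P.ng && decide (Odd j)), c.2 - P.k * j)

theorem sig_sgi (j l : ℕ) (c : Site) : P.sig j (sgi P (l + j) c) = sgi P l c := by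
  refine Prod.ext ?_ (by simp only [Loc.sig, sgi]; push_cast; ring)
  simp only [Loc.sig, sgi]
  generalize P.ng = ng
  by_cases h : Odd j <;> by_cases h' : Odd l <;> cases ng <;> cases c.1 <;>
    simp [h, h', Nat.odd_add, ← Nat.not_odd_iff_even]

theorem sgi_zero (c : Site) : sgi P 0 c = c := by simp [sgi]

theorem sig_zero (c : Site) : P.sig 0 c = c := by simp [Loc.sig]

theorem sig_sgi' (j : ℕ) (c : Site) : P.sig j (sgi P j c) = c := by
  have := sig_sgi P j 0 c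
  rwa [zero_add, sgi_zero] at this

theorem run_sig (j : ℕ) (c : Site) : P.run (P.sig j c) = P.run c := by
  refine Prod.ext ?_ (by simp [Loc.sig, Loc.run])
  have e : (c.2 + P.k * j) / P.k = c.2 / P.k + j := Int.add_mul_ediv_left _ _ (by exact_mod_cast P.k_pos.ne')
  change xor (xor c.1 (P.ng && decide (Odd j))) (P.ng && decide (Odd ((c.2 + P.k * j) / P.k))) =
    xor c.1 (P.ng && decide (Odd (c.2 / P.k)))
  rw [e]
  generalize P.ng = ng
  by_cases h : Odd j <;> by_cases h' : Odd (c.2 / P.k) <;> cases ng <;> cases c.1 <;>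
    simp [h, h', Int.odd_add, ← Int.not_odd_iff_even]

theorem run_sgi (j : ℕ) (c : Site) : P.run (sgi P j c) = P.run c := by
  rw [← run_sig P j, sig_sgi']

end Cfsg.Agent.PQ.Mn
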