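import Cfsg.Agent.PQ.Mn.Rl

/-!
# PQ theta, box MAIN: the lattice generated by the fermions and the labels (helper22)
-/

set_option autoImplicit false
set_option linter.unusedSectionVars false

namespace Cfsg.Agent.PQ.Mn

open Module Cfsg.Agent.PQ.Th Cfsg.Agent.PQ.Rel
open scoped ComplexConjugate

attribute [local instance] Loc.fI Loc.dI

variable {V : Type} [AddCommGroup V] [Module ℂ V]

theorem mon_nil {J : Type} (Q : J → ℕ → End ℂ V) (κ : V) : κ ∈ Mon Q κ 0 := ⟨[], by simp, rfl, rfl⟩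

theorem mon_cons {J : Type} {Q : J → ℕ → End ℂ V} {κ u : V} {w : ℕ} (h : u ∈ Mon Q κ w) (i : J) {j : ℕ} (hj : 0 < j) :
    Q i j u ∈ Mon Q κ (j + w) := by
  obtain ⟨l, h1, rfl, rfl⟩ := h
  exact ⟨(i, j) :: l, List.forall_mem_cons.2 ⟨hj, h1⟩, rfl, rfl⟩

theorem mon_ind {J : Type} {Q : J → ℕ → End ℂ V} {κ : V} {p : ℕ → V → Prop} (h0 : p 0 κ)
    (hs : ∀ i j w u, 0 < j → u ∈ Mon Q κ w → p w u → p (j + w) (Q i j u)) {w : ℕ} {u : V} (h : u ∈ Mon Q κ w) : p w u := by
  obtain ⟨l, h1, rfl, rfl⟩ := h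
  induction l with
  | nil => exact h0
  | cons y l ih =>
    obtain ⟨h2, h3⟩ := List.forall_mem_cons.1 h1
    exact hs y.1 y.2 _ _ h2 ⟨l, h3, rfl, rfl⟩ (ih h3)

theorem zmap {S : Set V} {T : Submodule ℤ V} (B : End ℂ V) (h : ∀ u ∈ S, B u ∈ T) {u : V} (hu : u ∈ Submodule.span ℤ S) :
    B u ∈ T := by
  induction hu using Submodule.span_induction with
  | zero => rw [map_zero]; exact zero_mem _
  | add x y _ _ h1 h2 => rw [map_add]; exact add_mem h1 h2
  | smul c x _ h1 => rw [map_zsmul]; exact T.smul_mem c h1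
  | mem x hx => exact h x hx

theorem cmap {S : Set V} {T : Submodule ℂ V} (B : End ℂ V) (h : ∀ u ∈ S, B u ∈ T) {u : V} (hu : u ∈ Submodule.span ℂ S) :
    B u ∈ T := (Submodule.span_le (p := T.comap B)).2 h hu

theorem exists_ip {G : HS V} {S : Set V} (B : End ℂ V) {u v : V} (hv : v ∈ Submodule.span ℂ S) (h : G.ip u (B v) ≠ 0) :
    ∃ s ∈ S, G.ip u (B s) ≠ 0 := by
  by_contra hn
  push Not at hn
  refine h ?_
  clear h
  induction hv using Submodule.span_induction with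
  | zero => rw [map_zero, ip_zero_right]
  | add x y _ _ h1 h2 => rw [map_add, ip_add_right, h1, h2, add_zero]
  | smul c x _ h1 => rw [map_smul, ip_smul_right, h1, mul_zero]
  | mem x hx => exact hn x hx

theorem zspan_Z {G : HS V} {S : Set V} (h : ∀ u ∈ S, u ∈ G.Z) {u : V} (hu : u ∈ Submodule.span ℤ S) : u ∈ G.Z :=
  (Submodule.span_le (p := AddSubgroup.toIntSubmodule G.Z)).2 h hu

/-- a unit vector with a nonzero integral coordinate is a basis vector up to sign -/
theorem unit_int {G : HS V} {u : V} (hu : G.ip u u = 1) {x : G.ι} {z : ℤ} (hz : G.b.repr u x = z) (h0 : z ≠ 0) :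
    u = G.b x ∨ u = -G.b x := by
  classical
  have hx : x ∈ (G.b.repr u).support := Finsupp.mem_support_iff.2 (by rw [hz]; exact_mod_cast h0)
  have e : ∑ i ∈ (G.b.repr u).support, Complex.normSq (G.b.repr u i) = 1 := by
    unfold HS.ip Finsupp.sum at hu
    simp only [Complex.mul_conj] at hu
    exact_mod_cast hu
  rw [← Finset.add_sum_erase _ _ hx, hz] at e
  have h1 : 0 ≤ ∑ i ∈ (G.b.repr u).support.erase x, Complex.normSq (G.b.repr u i) :=
    Finset.sum_nonneg fun _ _ => Complex.normSq_nonneg _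
  have h2 : Complex.normSq (z : ℂ) = ((z * z : ℤ) : ℝ) := by simp
  have h3 : (1 : ℝ) ≤ ((z * z : ℤ) : ℝ) := by exact_mod_cast mul_self_pos.2 h0
  have h4 : z * z = 1 := by
    have : ((z * z : ℤ) : ℝ) = 1 := by linarith
    exact_mod_cast this
  have h5 := (Finset.sum_eq_zero_iff_of_nonneg fun _ _ => Complex.normSq_nonneg _).1
    (show ∑ i ∈ (G.b.repr u).support.erase x, Complex.normSq (G.b.repr u i) = 0 by linarith)
  have h6 : u = (z : ℂ) • G.b x := G.b.repr.injective (Finsupp.ext fun i => by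
    by_cases e : i = x
    · subst e; simp [hz]
    · have : G.b.repr u i = 0 := by
        by_contra hi
        exact hi (Complex.normSq_eq_zero.1 (h5 i (Finset.mem_erase.2 ⟨e, Finsupp.mem_support_iff.2 hi⟩)))
      simp [this, Ne.symm e])
  rcases Int.eq_one_or_neg_one_of_mul_eq_one h4 with rfl | rfl
  · exact Or.inl (by simpa using h6)
  · exact Or.inr (by simpa using h6)

variable {H : HS V} (C : Cyc H)

/-- a fermion -/
noncomputable def fm (y : Bool × Site) : End ℂ (ℤ →₀ V) := if y.1 then C.ps y.2 else C.pt y.2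

/-- a word in the fermions -/
noncomputable def wd (l : List (Bool × Site)) : End ℂ (ℤ →₀ V) := (l.map (fm C)).prod

theorem wd_nil (u : ℤ →₀ V) : wd C [] u = u := rfl

theorem wd_cons (y : Bool × Site) (l : List (Bool × Site)) (u : ℤ →₀ V) : wd C (y :: l) u = fm C y (wd C l u) := rfl

variable {C}

theorem wd_comm {Y : End ℂ (ℤ →₀ V)} (h1 : ∀ c, Commute Y (C.ps c)) (h2 : ∀ c, Commute Y (C.pt c)) (l : List (Bool × Site))
    (u : ℤ →₀ V) : Y (wd C l u) = wd C l (Y u) := by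
  refine LinearMap.congr_fun (Commute.list_prod_right (l.map (fm C)) Y fun B hB => ?_).eq u
  obtain ⟨y, -, rfl⟩ := List.mem_map.1 hB
  unfold fm
  split_ifs
  exacts [h1 _, h2 _]

theorem wd_Z (hc : CAR C) (l : List (Bool × Site)) {u : ℤ →₀ V} (hu : u ∈ H.fock.Z) : wd C l u ∈ H.fock.Z := by
  induction l with
  | nil => exact hu
  | cons y l ih =>
    rw [wd_cons, fm]
    split_ifs
    exacts [hc.itg_s _ _ ih, hc.itg_t _ _ ih]

/-- eigenvectors of the number operators -/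
def Pure (C : Cyc H) (u : ℤ →₀ V) : Prop := ∀ c, C.ps c u = 0 ∨ C.pt c u = 0

theorem anti {A B : End ℂ V} (h : A * B + B * A = 0) (u : V) : A (B u) = -B (A u) :=
  eq_neg_of_add_eq_zero_left (LinearMap.congr_fun h u)

theorem sq_zero {A : End ℂ V} (h : A * A + A * A = 0) (u : V) : A (A u) = 0 := by
  have e : (2 : ℂ) • A (A u) = 0 := by rw [two_smul]; exact LinearMap.congr_fun h u
  exact (smul_eq_zero.1 e).resolve_left two_ne_zero

theorem pure_fm (hc : CAR C) (y : Bool × Site) {u : ℤ →₀ V} (hu : Pure C u) :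
    Pure C (fm C y u) ∧ (fm C y u = 0 ∨ H.fock.ip (fm C y u) (fm C y u) = H.fock.ip u u) := by
  obtain ⟨b, c⟩ := y
  have e := LinearMap.congr_fun (hc.st c c) u
  rw [if_pos rfl, LinearMap.add_apply, End.mul_apply, End.mul_apply, End.one_apply] at e
  cases b
  · change Pure C (C.pt c u) ∧ (C.pt c u = 0 ∨ H.fock.ip (C.pt c u) (C.pt c u) = _)
    refine ⟨fun c' => ?_, (hu c).symm.imp id fun h => ?_⟩
    · by_cases h : c' = c
      · subst h; exact Or.inr (sq_zero (hc.tt c' c') u)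
      · exact (hu c').imp (fun h' => by rw [st_ne hc h, h', map_zero, neg_zero])
          fun h' => by rw [anti (hc.tt c' c), h', map_zero, neg_zero]
    · rw [h, map_zero, add_zero] at e
      rw [adj_symm (hc.adj c), e]
  · change Pure C (C.ps c u) ∧ (C.ps c u = 0 ∨ H.fock.ip (C.ps c u) (C.ps c u) = _)
    refine ⟨fun c' => ?_, (hu c).imp id fun h => ?_⟩
    · by_cases h : c' = c
      · subst h; exact Or.inl (sq_zero (hc.ss c' c') u)
      · exact (hu c').imp (fun h' => by rw [anti (hc.ss c' c), h', map_zero, neg_zero])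
          fun h' => by rw [← neg_eq_zero, ← st_ne hc (Ne.symm h), h', map_zero]
    · rw [h, map_zero, zero_add] at e
      rw [hc.adj c, e]

theorem pure_wd (hc : CAR C) (l : List (Bool × Site)) {u : ℤ →₀ V} (hu : Pure C u) :
    Pure C (wd C l u) ∧ (wd C l u = 0 ∨ H.fock.ip (wd C l u) (wd C l u) = H.fock.ip u u) := by
  induction l with
  | nil => exact ⟨hu, Or.inr rfl⟩
  | cons y l ih =>
    rw [wd_cons]
    refine ⟨(pure_fm hc y ih.1).1, ?_⟩
    rcases ih.2 with h | h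
    · exact Or.inl (by rw [h, map_zero])
    · exact h ▸ (pure_fm hc y ih.1).2

theorem pure_vac {u : ℤ →₀ V} (hu : u ∈ C.Vac) : Pure C u := fun c =>
  (em (Sea c)).imp (hu.1 c) (hu.2 c)

variable (P : Loc C) (A : Ar P.k P.I) {J : Type} [Fintype J] [DecidableEq J] (rep : J → ZMod (A.p ^ A.b))

/-- the lattice of the labels -/
noncomputable def MZ (w : ℕ) : Submodule ℤ (ℤ →₀ V) :=
  Submodule.span ℤ {u | ∃ w' ≤ w, u ∈ Mon (fun t => nw (P.PL A (rep t))) C.Om w'}

/-- the generators -/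
def Gn : Set (ℤ →₀ V) := {u | ∃ l m, (∃ w ≤ A.a, m ∈ Mon (fun t => nw (P.PL A (rep t))) C.Om w) ∧ u = wd C l m}

/-- the lattice -/
noncomputable def Lz : Submodule ℤ (ℤ →₀ V) := Submodule.span ℤ (Gn P A rep)

/-- its span -/
noncomputable def Wc : Submodule ℂ (ℤ →₀ V) := Submodule.span ℂ (Gn P A rep)

variable {P A rep}

theorem MZ_mono {w w' : ℕ} (h : w ≤ w') : MZ P A rep w ≤ MZ P A rep w' :=
  Submodule.span_mono fun _ ⟨a, h1, h2⟩ => ⟨a, h1.trans h, h2⟩

theorem hl_MZ (t : J) (m : ℕ) {w : ℕ} {u : ℤ →₀ V} (hu : u ∈ MZ P A rep w) : nw (P.PL A (rep t)) m u ∈ MZ P A rep (m + w) := by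
  rcases m.eq_zero_or_pos with rfl | hm
  · rwa [nw_zero, zero_add]
  · refine zmap _ ?_ hu
    rintro v ⟨a, h1, h2⟩
    exact Submodule.subset_span ⟨m + a, by omega, mon_cons h2 t hm⟩

theorem wd_Lz (l : List (Bool × Site)) {u : ℤ →₀ V} (hu : u ∈ MZ P A rep A.a) : wd C l u ∈ Lz P A rep := by
  refine zmap _ (fun v hv => Submodule.subset_span ?_) hu
  exact ⟨l, v, hv, rfl⟩

theorem fm_Lz (y : Bool × Site) {u : ℤ →₀ V} (hu : u ∈ Lz P A rep) : fm C y u ∈ Lz P A rep := by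
  refine zmap _ ?_ hu
  rintro _ ⟨l, m, h1, rfl⟩
  exact Submodule.subset_span ⟨y :: l, m, h1, rfl⟩

theorem Lz_Wc {u : ℤ →₀ V} (hu : u ∈ Lz P A rep) : u ∈ Wc P A rep := Submodule.span_subset_span ℤ ℂ _ hu

namespace Cx

variable (h : Cx P A J rep)
include h

theorem mon_Z {w : ℕ} (hw : w ≤ A.a) {u : ℤ →₀ V} (hu : u ∈ Mon (fun t => nw (P.PL A (rep t))) C.Om w) : u ∈ H.fock.Z := by
  obtain ⟨l, -, rfl, rfl⟩ := hu
  have := h.int (l.map fun y => (rep y.1, y.2)) (fun y hy => by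
    obtain ⟨z, -, rfl⟩ := List.mem_map.1 hy
    exact h.ne _) (by rwa [List.map_map])
  rwa [List.map_map] at this

theorem Lz_Z {u : ℤ →₀ V} (hu : u ∈ Lz P A rep) : u ∈ H.fock.Z := by
  refine zspan_Z ?_ hu
  rintro _ ⟨l, _, ⟨_, h1, h2⟩, rfl⟩
  exact wd_Z h.car l (h.mon_Z h1 h2)

theorem ps_ps (i i' : (Bool × ZMod P.k) ⊕ J) (j l : ℕ) (h1 : 0 < j) (h2 : j ≤ A.a) (h3 : 0 < l) (h4 : l ≤ A.a) :
    Commute (PS P A rep i j) (PS P A rep i' l) := adj_comm (h.pp_adj i j) (h.pp_adj i' l) (h.pp_pp i i' j l h1 h2 h3 h4)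

theorem ps_Om (i : (Bool × ZMod P.k) ⊕ J) {j : ℕ} (hj : 0 < j) : PS P A rep i j C.Om = 0 := by
  cases i
  exacts [as_vac P h.car _ hj h.car.om, pls_Om h.car _ hj]

theorem nw_MZ (i : (Bool × ZMod P.k) ⊕ J) {w : ℕ} {u : ℤ →₀ V} (hu : u ∈ Mon (fun t => nw (P.PL A (rep t))) C.Om w) :
    w ≤ A.a → ∀ n ≤ A.a, nw (PS P A rep i) n u ∈ MZ P A rep w := by
  refine mon_ind (p := fun w u => w ≤ A.a → ∀ n ≤ A.a, nw (PS P A rep i) n u ∈ MZ P A rep w) (fun _ n hn => ?_)
    (fun t j w u hj _ ih hw n hn => ?_) hu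
  · cases n with
    | zero => rw [nw_zero]; exact Submodule.subset_span ⟨0, le_rfl, mon_nil _ _⟩
    | succ n =>
      rw [nw_kill (fun j l h1 h2 h3 h4 => h.ps_ps i i j l h1 (by omega) h3 (by omega)) fun j h1 _ => h.ps_Om i h1]
      exact zero_mem _
  · rw [← End.mul_apply]
    by_cases e : i = Sum.inr t
    · rw [nw_nw (a := A.a) (P := P.PL A (rep t)) (by omega) hn fun j l h1 h2 h3 h4 => by
        simpa only [e, and_true, PP, Sum.elim_inr] using h.ps_pp i (Sum.inr t) j l h1 h2 h3 h4, LinearMap.sum_apply]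
      refine sum_mem fun s _ => ?_
      rw [End.mul_apply, ez]
      split_ifs
      · exact MZ_mono (by omega) (hl_MZ t _ (ih (by omega) _ (by omega)))
      · exact zero_mem _
    · have : Commute (nw (PS P A rep i) n) (nw (P.PL A (rep t)) j) :=
        nw_comm fun l h3 h4 => (nw_comm fun s h1 h2 => Commute.symm (by
          have := h.ps_pp i (Sum.inr t) s l h1 (by omega) h3 (by omega)
          rwa [if_neg fun h' => e h'.2, zero_smul, add_zero] at this)).symm
      rw [this.eq, End.mul_apply]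
      exact hl_MZ t j (ih (by omega) n hn)

theorem nw_fm (i : (Bool × ZMod P.k) ⊕ J) (y : Bool × Site) {n : ℕ} (hn : n ≤ A.a) {u : ℤ →₀ V}
    (hu : ∀ n' ≤ n, nw (PS P A rep i) n' u ∈ Lz P A rep) : nw (PS P A rep i) n (fm C y u) ∈ Lz P A rep := by
  have key : (∀ j, 0 < j → j ≤ n → Commute (PS P A rep i j) (fm C y)) → nw (PS P A rep i) n (fm C y u) ∈ Lz P A rep := fun hc => by
    rw [← End.mul_apply, ← (nw_comm fun j h1 h2 => (hc j h1 h2).symm).eq, End.mul_apply]
    exact fm_Lz y (hu n le_rfl)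
  obtain ⟨b, c⟩ := y
  rcases i with ρ | t
  · by_cases e : P.run c ∈ ({ρ} : Set _)
    · cases b
      · cases n with
        | zero => rw [nw_zero]; exact fm_Lz _ (by simpa only [nw_zero, End.one_apply] using hu 0 le_rfl)
        | succ n =>
          have e1 := nw_down (Q := PS P A rep (Sum.inl ρ)) (B := fun l => C.pt (P.sig l c)) (fun j l hj => by
            have := as_t h.car h.hei {ρ} hj (P.sig l c)
            rwa [run_sig, if_pos e, sig_sig] at this) n
          rw [sig_zero] at e1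
          change (nw (PS P A rep (Sum.inl ρ)) (n + 1) * C.pt c) u ∈ _
          rw [e1]
          exact sub_mem (fm_Lz (false, c) (hu _ le_rfl)) (fm_Lz (false, P.sig 1 c) (hu _ (by omega)))
      · have e1 := nw_up (Q := PS P A rep (Sum.inl ρ)) (A := fun l => C.ps (sgi P l c)) (fun j l hj => by
          have := as_s h.car h.hei {ρ} hj (sgi P (l + j) c)
          rwa [run_sgi, if_pos e, sig_sgi] at this) n
        rw [sgi_zero] at e1
        change (nw (PS P A rep (Sum.inl ρ)) n * C.ps c) u ∈ _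
        rw [e1, LinearMap.sum_apply]
        exact sum_mem fun s _ => fm_Lz (true, sgi P s c) (hu _ (by omega))
    · refine key fun j hj _ => ?_
      cases b
      · have := as_t h.car h.hei {ρ} hj c
        rwa [if_neg e, sub_zero] at this
      · have := as_s h.car h.hei {ρ} hj (sgi P j c)
        rwa [run_sgi, if_neg e, add_zero, sig_sgi'] at this
  · refine key fun j hj h2 => ?_
    cases b
    exacts [pls_t h.car h.hei (h.ne t) hj (by omega) c, pls_s h.car h.hei (h.ne t) hj (by omega) c]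

theorem nw_Lz (i : (Bool × ZMod P.k) ⊕ J) {n : ℕ} (hn : n ≤ A.a) {u : ℤ →₀ V} (hu : u ∈ Lz P A rep) :
    nw (PS P A rep i) n u ∈ Lz P A rep := by
  refine zmap _ ?_ hu
  rintro _ ⟨l, m, ⟨w, h1, h2⟩, rfl⟩
  induction l generalizing n with
  | nil => exact wd_Lz [] (MZ_mono h1 (h.nw_MZ i h2 h1 n hn))
  | cons y l ih => exact h.nw_fm i y hn fun n' h' => ih (h'.trans hn)

theorem ps_Wc (i : (Bool × ZMod P.k) ⊕ J) {j : ℕ} (h0 : 0 < j) (hj : j ≤ A.a) {u : ℤ →₀ V} (hu : u ∈ Wc P A rep) :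
    PS P A rep i j u ∈ Wc P A rep :=
  mem_of_nw (fun _ hn _ hv => cmap _ (fun _ hw => Lz_Wc (h.nw_Lz i hn (Submodule.subset_span hw))) hv) j h0 hj u hu

theorem dif_Wc {i : P.I} (hi : P.d i = 1) {j : ℕ} (h0 : 0 < j) (hj : j ≤ A.a) {u : ℤ →₀ V} (hu : u ∈ Wc P A rep) :
    dif P A rep i j u = 0 := by
  refine (Submodule.mem_bot ℂ).1 (cmap _ ?_ hu)
  rintro _ ⟨l, m, ⟨w, h1, h2⟩, rfl⟩
  have : dif P A rep i j m = 0 := mon_ind (p := fun w u => w ≤ A.a → dif P A rep i j u = 0) (fun _ => h.dif_Om h0)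
    (fun t s w u _ _ ih hw => by
      rw [← End.mul_apply, (nw_comm fun l h3 h4 => h.dif_pl hi h0 hj t h3 (by omega)).eq, End.mul_apply, ih (by omega),
        map_zero]) h2 h1
  rw [wd_comm (h.dif_s hi h0 hj) (h.dif_t hi h0 hj), this, map_zero]
  exact zero_mem _

/-- **the local operators on the span of the lattice** -/
theorem dsh_Wc [NeZero P.k] {i : P.I} (hi : P.d i = 1) {j : ℕ} (h0 : 0 < j) (hj : j ≤ A.a) {u : ℤ →₀ V}
    (hu : u ∈ Wc P A rep) : nn P.ng P.q₀ j • P.Dsh j (Pi.single i 1) u =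
      (∑ s : (Bool × ZMod P.k) ⊕ J, s.elim (fun _ => (1 : ℂ)) (fun t => A.τ (rep t) (j * A.ζ i)) • PS P A rep s j) u := by
  have e := h.dif_Wc hi h0 hj hu
  rw [dif, sub_sub, LinearMap.sub_apply, sub_eq_zero, as_univ h.hei] at e
  rw [Fintype.sum_sum_type]
  simpa only [Sum.elim_inl, Sum.elim_inr, one_smul, PS, LinearMap.smul_apply] using e

end Cx

end Cfsg.Agent.PQ.Mn
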