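import Cfsg.Agent.PQ.Mn.Reg

/-!
# PQ theta, box MAIN: descent to the core (helper22)
-/

set_option autoImplicit false
set_option linter.unusedSectionVars false

namespace Cfsg.Agent.PQ.Mn

open Module Cfsg.Agent.PQ.Th Cfsg.Agent.PQ.Rel
open scoped ComplexConjugate

attribute [local instance] Loc.fI Loc.dI

variable {V : Type} [AddCommGroup V] [Module ℂ V] {H : HS V} {C : Cyc H} {P : Loc C} {A : Ar P.k P.I}

theorem lf_apply (B : End ℂ V) (U : ℤ →₀ V) (M : ℤ) : lf B U M = B (U M) := by simp [lf]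

theorem Ds_mul (F : (P.I → ℕ) → ℂ) (j : ℕ) (i : P.I) : P.Ds j (Pi.single i 1) * P.mul F =
    P.mul (fun v => F (v + Pi.single i (j / P.d i))) * P.Ds j (Pi.single i 1) := by
  have h1 := adj_mul (P.mul_adj fun v => conj (F v)) (P.D_adj j (Pi.single i 1))
  rw [P.mul_D] at h1
  simpa only [Complex.conj_conj] using adj_unique h1 (adj_mul (P.D_adj j _) (P.mul_adj _))

theorem step_down {i : P.I} (hi : P.d i = 1) {t : ℕ} (ht : 0 < t) {U : ℤ →₀ V}
    (h : lf (P.mul (Pi.single (Pi.single i t) 1)) U ≠ 0) :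
    ∃ j, 0 < j ∧ j ≤ t ∧ lf (P.mul (Pi.single (Pi.single i (t - j)) 1)) (P.Dsh j (Pi.single i 1) U) ≠ 0 := by
  obtain ⟨M, hM⟩ := Finsupp.ne_iff.1 h
  rw [lf_apply, Finsupp.zero_apply] at hM
  have e : (Pi.single (Pi.single i t) 1 * Pi.single (Pi.single i t) 1 : (P.I → ℕ) → ℂ) = Pi.single (Pi.single i t) 1 := by
    rw [← Pi.single_mul, one_mul]
  obtain ⟨j, hj⟩ := not_forall.1 fun h' => hM (P.cpl _ (Pi.single i t) i (by simpa using ht)
    (by rw [← End.mul_apply, ← map_mul, e]) h')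
  have h0 : 0 < j := by
    refine Nat.pos_of_ne_zero ?_
    rintro rfl
    have := P.D_adj 0 (Pi.single i 1)
    rw [P.D0] at this
    exact hj (by rw [adj_unique this adj_zero, LinearMap.zero_apply])
  rw [← End.mul_apply, Ds_mul, End.mul_apply, hi, Nat.div_one] at hj
  have h1 : j ≤ t := by
    by_contra h1
    have : (fun v : P.I → ℕ => (Pi.single (Pi.single i t) 1 : (P.I → ℕ) → ℂ) (v + Pi.single i j)) = 0 := by
      funext v
      rw [Pi.single_eq_of_ne, Pi.zero_apply]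
      intro e'
      have := congrFun e' i
      rw [Pi.add_apply, Pi.single_eq_same, Pi.single_eq_same] at this
      omega
    exact hj (by rw [this, map_zero, LinearMap.zero_apply])
  have h2 : (fun v : P.I → ℕ => (Pi.single (Pi.single i t) 1 : (P.I → ℕ) → ℂ) (v + Pi.single i j)) =
      Pi.single (Pi.single i (t - j)) 1 := by
    funext v
    have e' : (Pi.single i t : P.I → ℕ) = Pi.single i (t - j) + Pi.single i j := by
      rw [← Pi.single_add, Nat.sub_add_cancel h1]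
    rw [Pi.single_apply, Pi.single_apply, e']
    exact if_congr (add_left_inj _) rfl rfl
  rw [h2] at hj
  refine ⟨j, h0, h1, fun h3 => hj ?_⟩
  have h4 := congrArg (fun W : ℤ →₀ V => P.hat j (W M)) h3
  simp only [Loc.Dsh, lf_apply, Finsupp.zero_apply, map_zero] at h4
  rwa [← End.mul_apply, (hat_comm P j (hom_df (P.mul_hom _)) fun a => by rw [add_zero]).eq, End.mul_apply, ← End.mul_apply (P.hat j),
    ← mul_assoc, hat_hat, one_mul] at h4

theorem deg_Z {deg : V →ₗ[ℂ] ℂ} (h : ∀ y, ∃ m : ℤ, deg (H.b y) = m) {u : V} (hu : u ∈ H.Z) : ∃ m : ℤ, deg u = m := by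
  rw [← H.b.linearCombination_repr u, Finsupp.linearCombination_apply, Finsupp.sum, map_sum]
  refine Finset.sum_induction _ (fun z : ℂ => ∃ m : ℤ, z = m) (fun _ _ ⟨m, hm⟩ ⟨n, hn⟩ => ⟨m + n, by simp [hm, hn]⟩)
    ⟨0, by simp⟩ fun i _ => ?_
  obtain ⟨m, hm⟩ := h i
  obtain ⟨n, hn⟩ := hu i
  exact ⟨n * m, by simp [hm, hn]⟩

variable {J : Type} [Fintype J] [DecidableEq J] {rep : J → ZMod (A.p ^ A.b)}

namespace Cx

variable (h : Cx P A J rep)
include h

theorem to_core {i : P.I} (hi : P.d i = 1) (t : ℕ) : t ≤ A.a → ∀ U ∈ Wc P A rep, ∀ (n : ℤ) (D : ZMod 4), U ∈ H.fock.gr n →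
    U ∈ H.fock.cmp D → lf (P.mul (Pi.single (Pi.single i t) 1)) U ≠ 0 → ∃ y : H.fock.ι, (H.rk y.2 : ℤ) + P.k * t = n ∧
      H.df y.2 = D + sh P.ng t ∧ ∃ m ∈ Mon (PP P A rep) (H.fock.b y) t, H.fock.ip U m ≠ 0 := by
  have : NeZero P.k := ⟨P.k_pos.ne'⟩
  induction t using Nat.strong_induction_on with
  | _ t ih =>
    intro ht U hU n D h1 h2 h3
    rcases t.eq_zero_or_pos with rfl | h0
    · obtain ⟨y, hy⟩ := Finsupp.ne_iff.1 fun e : H.fock.b.repr U = 0 =>
        h3 (by rw [H.fock.b.repr.map_eq_zero_iff.1 e, map_zero])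
      refine ⟨y, ?_, ?_, _, mon_nil _ _, by rwa [ip_b_right]⟩
      · by_contra e
        exact hy (h1 y fun e' => e (by rw [Nat.cast_zero, mul_zero, add_zero]; exact e'))
      · by_contra e
        exact hy (h2 y fun e' => e (by rw [sh_zero, add_zero]; exact e'))
    · obtain ⟨j, j0, j1, h4⟩ := step_down hi h0 h3
      obtain ⟨s, hs⟩ : ∃ s, lf (P.mul (Pi.single (Pi.single i (t - j)) 1)) (PS P A rep s j U) ≠ 0 := by
        by_contra hn
        push Not at hn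
        have e := congrArg (lf (P.mul (Pi.single (Pi.single i (t - j)) 1))) (h.dsh_Wc hi j0 (by omega) hU)
        simp only [LinearMap.sum_apply, LinearMap.smul_apply, map_sum, map_smul, hn, smul_zero, Finset.sum_const_zero] at e
        exact h4 ((smul_eq_zero.1 e).resolve_left (nn_ne _ P.two_le j0))
      obtain ⟨y, y1, y2, m, y3, y4⟩ := ih (t - j) (by omega) (by omega) _ (h.ps_Wc s j0 (by omega) hU) _ _
        ((h.ps_hom s j0).1 _ _ h1) ((h.ps_hom s j0).2 _ _ h2) hs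
      refine ⟨y, ?_, ?_, PP P A rep s j m, ?_, by rwa [← adj_symm (h.pp_adj s j)]⟩
      · rw [Nat.cast_sub j1] at y1
        linarith
      · rw [y2, add_assoc, ← sh_add, Nat.add_sub_cancel' j1]
      · simpa only [Nat.add_sub_cancel' j1] using mon_cons y3 s j0

theorem ip_int {y : H.fock.ι} {u U : ℤ →₀ V}
    (hu : u ∈ Submodule.span ℤ (Mon (fun s => nw (PP P A rep s)) (H.fock.b y) A.a)) (hU : U ∈ Lz P A rep) :
    ∃ z : ℤ, H.fock.ip u U = z := by
  induction hu using Submodule.span_induction with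
  | zero => exact ⟨0, by rw [ip_zero_left, Int.cast_zero]⟩
  | add x y _ _ h1 h2 =>
    obtain ⟨a, ha⟩ := h1
    obtain ⟨b, hb⟩ := h2
    exact ⟨a + b, by rw [ip_add_left, ha, hb, Int.cast_add]⟩
  | smul c x _ h1 =>
    obtain ⟨a, ha⟩ := h1
    exact ⟨c * a, by rw [← Int.cast_smul_eq_zsmul ℂ, ip_smul_left, ha, Int.cast_mul]⟩
  | mem m hm =>
    refine mon_ind (p := fun w m => w ≤ A.a → ∀ U ∈ Lz P A rep, ∃ z : ℤ, H.fock.ip m U = z) (fun _ U hU => ?_)
      (fun s n w m _ _ ih hw U hU => ?_) hm le_rfl U hU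
    · obtain ⟨z, hz⟩ := h.Lz_Z hU y
      exact ⟨z, by rw [ip_b_left, hz, map_intCast]⟩
    · rw [adj_nw (fun j _ _ => h.pp_adj s j) fun j l h1 h2 h3 h4 => h.pp_pp s s j l h1 (by omega) h3 (by omega)]
      exact ih (by omega) _ (h.nw_Lz s (by omega) hU)

theorem main (hs : BoxSF) {x : H.ι} {r : ℕ} {deg : V →ₗ[ℂ] ℂ} (ht : Tgt P A x r deg) {m : ℤ} (hm : deg (H.b x) = m) :
    ¬ (r : ℤ) ∣ m := by
  classical
  intro hr
  have : NeZero P.k := ⟨P.k_pos.ne'⟩
  have hp : Prime (r : ℤ) := Nat.prime_iff_prime_int.1 ht.rp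
  obtain ⟨X, hX⟩ : ∃ X : H.fock.ι, X = ⟨1, x⟩ := ⟨_, rfl⟩
  have x0 : H.fock.b X = Finsupp.single 1 (H.b x) := by rw [hX]; exact fock_b 1 x
  have x1 : H.fock.b X ∈ Lz P A rep := hX ▸ h.x_mem hs ht
  obtain ⟨i, hi, hw⟩ := ht.wt
  obtain ⟨y, y1, y2, v, y3, y4⟩ := h.to_core hi A.a le_rfl _ (Lz_Wc x1) (H.rk x) (H.df x) (x0 ▸ single_gr (b_gr x))
    (x0 ▸ single_cmp (b_cmp x)) (by rw [x0, lf_single]; exact fun e => hw (Finsupp.single_eq_zero.1 e))
  have k1 : ∀ s j, 0 < j → j ≤ A.a → PS P A rep s j (H.fock.b y) = 0 := fun s j j0 _ => by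
    refine eq_zero_of_sup (H := H.fock) (fun z h1 h2 => ht.low z.2 j j0 ?_ ?_)
      ((h.ps_hom s j0).1 _ _ (b_gr y)) ((h.ps_hom s j0).2 _ _ (b_cmp y))
    · have h3 : (H.rk z.2 : ℤ) = H.rk y.2 + -(P.k * j) := h1
      have : (H.rk z.2 : ℤ) + P.k * (A.a + j) = H.rk x := by linarith
      exact_mod_cast this
    · have h3 : H.df z.2 = H.df y.2 + sh P.ng j := h2
      rw [h3, y2, sh_add, add_assoc]
  obtain ⟨S, s1, -, s3, s4, s5⟩ := hs _ H.fock _ (PP P A rep) (PS P A rep) A.a (H.fock.b y) (fun s j _ _ => h.pp_adj s j)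
    h.pp_pp h.ps_pp (ip_bb y) k1 A.a le_rfl
  obtain ⟨u, hu, u1⟩ := exists_ip (G := H.fock) 1 (s4 ▸ Submodule.subset_span y3) y4
  obtain ⟨z, hz⟩ := h.ip_int (s3 ▸ Submodule.subset_span hu) x1
  rw [ip_b_right] at hz
  have u2 := unit_int (s1 u hu) hz fun e => u1 (by rw [End.one_apply, ip_b_left, hz, e]; simp)
  obtain ⟨N, n, hN, u3⟩ := s5 u hu
  obtain ⟨i₀, i1, i2, i3⟩ := ht.cong
  let c : (Bool × ZMod P.k) ⊕ J → ℤ := fun s => s.elim (fun _ => 1) fun _ => 2 * P.k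
  have u4 := u3 fun s => c s
  set E : End ℂ (ℤ →₀ V) := ∑ s, (c s : ℂ) • PS P A rep s 1 with hE
  have key : ∀ j ≤ A.a, (E ^ j) (H.fock.b X) ∈ Lz P A rep ∧ ∃ w : V, (E ^ j) (H.fock.b X) = Finsupp.single 1 w ∧
      w ∈ H.gr (H.rk x - P.k * j) ∧ w ∈ H.cmp (H.df x + sh P.ng j) ∧ ∃ m : ℤ, deg w = m ∧ (r : ℤ) ∣ m := fun j => by
    induction j with
    | zero =>
      exact fun _ => ⟨x1, H.b x, x0, by simpa using b_gr x, by simpa [sh_zero] using b_cmp x, m, hm, hr⟩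
    | succ j ih =>
      intro hj
      obtain ⟨l1, w, l2, l3, l4, m, l5, l6⟩ := ih (by omega)
      have wz : ∀ {w : V}, Finsupp.single 1 w ∈ Lz P A rep → w ∈ H.Z := fun {w} hw i => by
        obtain ⟨z, hz⟩ := h.Lz_Z hw ⟨1, i⟩
        exact ⟨z, by rwa [fock_repr, Finsupp.single_eq_same] at hz⟩
      have l7 : (E ^ (j + 1)) (H.fock.b X) ∈ Lz P A rep := by
        rw [pow_succ', End.mul_apply, hE, LinearMap.sum_apply]
        refine sum_mem fun s _ => ?_
        rw [LinearMap.smul_apply, Int.cast_smul_eq_zsmul, ← nw_one (PS P A rep s)]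
        exact Submodule.smul_mem _ _ (h.nw_Lz s (by omega) l1)
      have l8 : (E ^ (j + 1)) (H.fock.b X) =
          Finsupp.single 1 (nn P.ng P.q₀ 1 • P.hat 1 (P.Ds 1 (Pi.single i₀ 1) w)) := by
        have e := h.dsh_Wc i1 one_pos (by omega) (Lz_Wc l1)
        have e' : ∀ s : (Bool × ZMod P.k) ⊕ J,
            s.elim (fun _ => (1 : ℂ)) (fun t => A.τ (rep t) ((1 : ℕ) * A.ζ i₀)) = (c s : ℂ) := fun s => by
          cases s <;> simp [c, i2, tau_zero]
        simp only [e'] at e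
        rw [pow_succ', End.mul_apply, ← e, l2, Loc.Dsh, lf_single, Finsupp.smul_single]
        rfl
      have g1 := Ds_gr P 1 (Pi.single i₀ 1) _ _ l3
      have g2 := Ds_df P 1 (Pi.single i₀ 1) _ _ l4
      obtain ⟨m', l9⟩ := deg_Z ht.deg_int (wz (l8 ▸ l7))
      refine ⟨l7, _, l8, Submodule.smul_mem _ _ ?_, Submodule.smul_mem _ _ ?_, m', l9, ?_⟩
      · have := hat_gr P 1 _ _ g1
        rwa [show (H.rk x : ℤ) - P.k * j + -(P.k * (1 : ℕ)) + 0 = H.rk x - P.k * (j + 1 : ℕ) by push_cast; ring] at this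
      · have := hat_df P 1 _ _ g2
        rwa [add_zero, add_assoc, ← sh_add] at this
      · have i4 := i3 j (by omega) w (wz (l2 ▸ l1)) l3 l4 m
        rw [map_smul, smul_eq_mul] at l9
        rcases hat_apply P 1 (J_or g2) with e | e
        · rw [e] at l9
          simpa using dvd_sub l6 (i4 m' l5 l9)
        · rw [e, map_neg, mul_neg, neg_eq_iff_eq_neg, ← Int.cast_neg] at l9
          simpa using dvd_sub l6 (i4 _ l5 l9)
  obtain ⟨-, w, l2, -, -, m', l5, l6⟩ := key A.a le_rfl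
  have n1 : ¬ (r : ℤ) ∣ N * ∏ s, c s ^ n s := fun hd => by
    rcases hp.dvd_or_dvd hd with hd | hd
    · exact absurd (ht.rp.dvd_factorial.1 (Int.natCast_dvd_natCast.1 (hd.trans hN))) (not_le.2 ht.a_lt)
    · obtain ⟨s, -, hd⟩ := hp.exists_mem_finset_dvd hd
      have hd := hp.dvd_of_dvd_pow hd
      cases s
      · exact hp.not_dvd_one hd
      · exact ht.r_k (Int.natCast_dvd_natCast.1 (by simpa [c] using hd))
  obtain ⟨K, n2, n3⟩ : ∃ K : ℤ, ¬ (r : ℤ) ∣ K ∧ Finsupp.single 1 w = (K : ℂ) • H.fock.b y := by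
    rcases u2 with e | e
    · exact ⟨_, n1, by rw [← l2, ← e, u4]; push_cast; rfl⟩
    · refine ⟨-_, fun hd => n1 (dvd_neg.1 hd), ?_⟩
      rw [← l2, ← neg_eq_iff_eq_neg.2 e, map_neg, u4, ← neg_smul]
      push_cast; rfl
  obtain ⟨M, y⟩ := y
  rw [fock_b] at n3
  have n4 := congrArg (fun W : ℤ →₀ V => W M) n3
  simp only [Finsupp.smul_apply, Finsupp.single_eq_same] at n4
  by_cases e : M = 1
  · subst e
    rw [Finsupp.single_eq_same] at n4
    obtain ⟨my, hy⟩ := ht.deg_int y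
    rw [n4, map_smul, hy, smul_eq_mul] at l5
    have l7 : K * my = m' := by exact_mod_cast l5
    exact ht.core y (by exact_mod_cast y1) y2 my hy ((hp.dvd_or_dvd (l7 ▸ l6)).resolve_left n2)
  · rw [Finsupp.single_eq_of_ne e] at n4
    have := (smul_eq_zero.1 n4.symm).resolve_right (H.b.ne_zero y)
    exact n2 (by rw [Int.cast_eq_zero.1 this]; exact dvd_zero _)

end Cx

/-- **box MAIN** -/
theorem boxMAIN : BoxMAIN := fun _ _ _ _ _ P A _ _ _ hs h1 h2 _ h4 h5 ht _ hm => by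
  classical
  obtain ⟨J, _, rep, r1, r2, r3⟩ := exists_rep A P.k_pos
  exact Cx.main (J := J) (rep := rep) ⟨h1, h2, h4, h5, r1, r2, r3⟩ hs ht hm

end Cfsg.Agent.PQ.Mn
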