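import Cfsg.Agent.PQ.Rel.Bas

/-!
# PQ theta, box MAIN: calculus of the Newton elements `nw` (helper22)
-/

set_option autoImplicit false
set_option linter.unusedSectionVars false

namespace Cfsg.Agent.PQ.Mn

open Module Cfsg.Agent.PQ.Th Cfsg.Agent.PQ.Rel PowerSeries
open scoped ComplexConjugate

variable {V : Type} [AddCommGroup V] [Module ℂ V]

theorem nw_zero (P : ℕ → End ℂ V) : nw P 0 = 1 := by rw [nw]

theorem nw_succ' (P : ℕ → End ℂ V) (n : ℕ) :
    nw P (n + 1) = ((n + 1 : ℂ)⁻¹) • ∑ i ∈ Finset.range (n + 1), P (i + 1) * nw P (n - i) := by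
  rw [nw, Finset.sum_range fun i => P (i + 1) * nw P (n - i)]

theorem nw_succ (P : ℕ → End ℂ V) (n : ℕ) :
    (n + 1 : ℂ) • nw P (n + 1) = ∑ i ∈ Finset.range (n + 1), P (i + 1) * nw P (n - i) := by
  rw [nw_succ', smul_smul, mul_inv_cancel₀ (Nat.cast_add_one_ne_zero n), one_smul]

theorem nw_one (P : ℕ → End ℂ V) : nw P 1 = P 1 := by
  rw [nw_succ' P 0]; simp [nw_zero]

theorem nw_congr {P Q : ℕ → End ℂ V} {n : ℕ} (h : ∀ j, 0 < j → j ≤ n → P j = Q j) : nw P n = nw Q n := by
  induction n using Nat.strong_induction_on with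
  | _ n ih =>
    cases n with
    | zero => rw [nw_zero, nw_zero]
    | succ n =>
      rw [nw_succ', nw_succ']
      congr 1
      refine Finset.sum_congr rfl fun i hi => ?_
      have := Finset.mem_range.1 hi
      rw [h (i + 1) (by omega) (by omega), ih (n - i) (by omega) fun j h1 h2 => h j h1 (by omega)]

/-- intertwining -/
theorem nw_semi {P Q : ℕ → End ℂ V} {B : End ℂ V} {n : ℕ} (h : ∀ j, 0 < j → j ≤ n → B * P j = Q j * B) :
    B * nw P n = nw Q n * B := by
  induction n using Nat.strong_induction_on with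
  | _ n ih =>
    cases n with
    | zero => rw [nw_zero, nw_zero, mul_one, one_mul]
    | succ n =>
      rw [nw_succ', nw_succ', mul_smul_comm, smul_mul_assoc, Finset.mul_sum, Finset.sum_mul]
      congr 1
      refine Finset.sum_congr rfl fun i hi => ?_
      have := Finset.mem_range.1 hi
      rw [← mul_assoc, h (i + 1) (by omega) (by omega), mul_assoc, ih (n - i) (by omega) fun j h1 h2 => h j h1 (by omega),
        mul_assoc]

theorem nw_comm {P : ℕ → End ℂ V} {B : End ℂ V} {n : ℕ} (h : ∀ j, 0 < j → j ≤ n → Commute B (P j)) :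
    Commute B (nw P n) := nw_semi h

theorem nw_kill {P : ℕ → End ℂ V} {u : V} {n : ℕ} (hc : ∀ j l, 0 < j → j ≤ n + 1 → 0 < l → l ≤ n + 1 → Commute (P j) (P l))
    (h : ∀ j, 0 < j → j ≤ n + 1 → P j u = 0) : nw P (n + 1) u = 0 := by
  rw [nw_succ', LinearMap.smul_apply, LinearMap.sum_apply, Finset.sum_eq_zero, smul_zero]
  intro i hi
  have := Finset.mem_range.1 hi
  rw [(nw_comm fun l h1 h2 => hc (i + 1) l (by omega) (by omega) h1 (by omega)).eq, End.mul_apply,
    h (i + 1) (by omega) (by omega), map_zero]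

/-- a filtration which is shifted by the power sums is shifted by the Newton elements -/
theorem nw_mem {P : ℕ → End ℂ V} (T : ℕ → Submodule ℂ V) (h : ∀ j w, 0 < j → ∀ u ∈ T w, P j u ∈ T (w + j)) (n : ℕ) :
    ∀ w, ∀ u ∈ T w, nw P n u ∈ T (w + n) := by
  induction n using Nat.strong_induction_on with
  | _ n ih =>
    cases n with
    | zero => intro w u hu; rwa [nw_zero]
    | succ n =>
      intro w u hu
      rw [nw_succ', LinearMap.smul_apply, LinearMap.sum_apply]
      refine Submodule.smul_mem _ _ (sum_mem fun i hi => ?_)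
      have := Finset.mem_range.1 hi
      have e : w + (n + 1) = w + (n - i) + (i + 1) := by omega
      rw [e]
      exact h _ _ (by omega) _ (ih (n - i) (by omega) w u hu)

/-- a subspace which is stable under the Newton elements is stable under the power sums -/
theorem mem_of_nw {P : ℕ → End ℂ V} {T : Submodule ℂ V} {a : ℕ} (h : ∀ n ≤ a, ∀ u ∈ T, nw P n u ∈ T) (j : ℕ) :
    0 < j → j ≤ a → ∀ u ∈ T, P j u ∈ T := by
  induction j using Nat.strong_induction_on with
  | _ j ih =>
    intro h0 hj u hu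
    obtain ⟨n, rfl⟩ : ∃ n, j = n + 1 := ⟨j - 1, by omega⟩
    have e := LinearMap.congr_fun (nw_succ P n) u
    rw [Finset.sum_range_succ, Nat.sub_self, nw_zero, mul_one, LinearMap.add_apply, LinearMap.smul_apply,
      LinearMap.sum_apply] at e
    rw [← sub_eq_iff_eq_add'.2 e]
    refine sub_mem (Submodule.smul_mem _ _ (h _ hj u hu)) (sum_mem fun i hi => ?_)
    have := Finset.mem_range.1 hi
    exact ih (i + 1) (by omega) (by omega) (by omega) _ (h _ (by omega) u hu)

theorem adj_zero {H : HS V} : H.Adj (0 : End ℂ V) 0 := fun u v => by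
  rw [LinearMap.zero_apply, LinearMap.zero_apply, ip_zero_left, ip_zero_right]

theorem adj_sum {H : HS V} {α : Type} (s : Finset α) {A B : α → End ℂ V} (h : ∀ i ∈ s, H.Adj (A i) (B i)) :
    H.Adj (∑ i ∈ s, A i) (∑ i ∈ s, B i) := by
  classical
  induction s using Finset.induction_on with
  | empty => simpa using adj_zero
  | insert a s ha ih =>
    rw [Finset.sum_insert ha, Finset.sum_insert ha]
    exact adj_add (h a (Finset.mem_insert_self _ _)) (ih fun i hi => h i (Finset.mem_insert_of_mem hi))

theorem adj_comm {H : HS V} {A B A' B' : End ℂ V} (h : H.Adj A A') (h' : H.Adj B B') (hc : Commute A B) : Commute A' B' :=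
  adj_unique (adj_mul h' h) (hc.eq ▸ adj_mul h h')

theorem adj_nw {H : HS V} {P Q : ℕ → End ℂ V} {n : ℕ} (h : ∀ j, 0 < j → j ≤ n → H.Adj (P j) (Q j))
    (hc : ∀ j l, 0 < j → j ≤ n → 0 < l → l ≤ n → Commute (P j) (P l)) : H.Adj (nw P n) (nw Q n) := by
  induction n using Nat.strong_induction_on with
  | _ n ih =>
    cases n with
    | zero => rw [nw_zero, nw_zero]; exact adj_one
    | succ n =>
      rw [nw_succ', nw_succ']
      have e : ((n + 1 : ℂ)⁻¹) = conj ((n + 1 : ℂ)⁻¹) := by simp
      conv_rhs => rw [e]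
      refine adj_smul (adj_sum _ fun i hi => ?_) _
      have := Finset.mem_range.1 hi
      have h1 := ih (n - i) (by omega) (fun j h1 h2 => h j h1 (by omega)) fun j l h1 h2 h3 h4 =>
        hc j l h1 (by omega) h3 (by omega)
      have h2 : Commute (Q (i + 1)) (nw Q (n - i)) := nw_comm fun l h1 h2 =>
        adj_comm (h _ (by omega) (by omega)) (h _ h1 (by omega)) (hc _ _ (by omega) (by omega) h1 (by omega))
      rw [h2.eq]
      exact adj_mul (h _ (by omega) (by omega)) h1

/-! ### generating series -/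

/-- the Euler operator -/
noncomputable def th (f : (End ℂ V)⟦X⟧) : (End ℂ V)⟦X⟧ := mk fun n => (n : ℂ) • coeff n f

theorem coeff_th (f : (End ℂ V)⟦X⟧) (n : ℕ) : coeff n (th f) = (n : ℂ) • coeff n f := coeff_mk _ _

theorem th_mul (f g : (End ℂ V)⟦X⟧) : th (f * g) = th f * g + f * th g := by
  ext1 n
  rw [map_add, coeff_th, coeff_mul, coeff_mul, coeff_mul, Finset.smul_sum, ← Finset.sum_add_distrib]
  refine Finset.sum_congr rfl fun p hp => ?_
  rw [coeff_th, coeff_th, smul_mul_assoc, mul_smul_comm, ← add_smul, ← Finset.HasAntidiagonal.mem_antidiagonal.1 hp,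
    Nat.cast_add]

theorem th_sub (f g : (End ℂ V)⟦X⟧) : th (f - g) = th f - th g := by
  ext1 n
  rw [map_sub, coeff_th, coeff_th, coeff_th, map_sub, smul_sub]

theorem th_C (A : End ℂ V) : th (C A) = 0 := by
  ext1 n
  rw [coeff_th, coeff_C]
  split_ifs with h <;> simp [h]

/-- the series of the power sums -/
noncomputable def ser (P : ℕ → End ℂ V) : (End ℂ V)⟦X⟧ := mk fun n => if n = 0 then 0 else P n

theorem coeff_ser_mul (P : ℕ → End ℂ V) (g : (End ℂ V)⟦X⟧) (n : ℕ) :
    coeff n (ser P * g) = ∑ i ∈ Finset.range n, P (i + 1) * coeff (n - 1 - i) g := by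
  rw [coeff_mul, Finset.Nat.sum_antidiagonal_eq_sum_range_succ fun i j => coeff i (ser P) * coeff j g,
    Finset.sum_range_succ']
  simp only [ser, coeff_mk, if_true, zero_mul, add_zero, Nat.succ_ne_zero, if_false]
  refine Finset.sum_congr rfl fun i _ => ?_
  rw [show n - (i + 1) = n - 1 - i by omega]

theorem coeff_mul_ser (P : ℕ → End ℂ V) (g : (End ℂ V)⟦X⟧) (n : ℕ) :
    coeff n (g * ser P) = ∑ i ∈ Finset.range n, coeff (n - 1 - i) g * P (i + 1) := by
  rw [coeff_mul, ← Finset.Nat.sum_antidiagonal_swap]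
  simp only [Prod.fst_swap, Prod.snd_swap]
  rw [Finset.Nat.sum_antidiagonal_eq_sum_range_succ fun i j => coeff j g * coeff i (ser P), Finset.sum_range_succ']
  simp only [ser, coeff_mk, if_true, mul_zero, add_zero, Nat.succ_ne_zero, if_false]
  refine Finset.sum_congr rfl fun i _ => ?_
  rw [show n - (i + 1) = n - 1 - i by omega]

theorem th_nw (P : ℕ → End ℂ V) : th (mk (nw P)) = ser P * mk (nw P) := by
  ext1 n
  rw [coeff_th, coeff_ser_mul, coeff_mk]
  cases n with
  | zero => simp
  | succ n =>
    rw [Nat.cast_succ, nw_succ]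
    simp only [coeff_mk, Nat.add_sub_cancel]

theorem uniq {P : ℕ → End ℂ V} {g : (End ℂ V)⟦X⟧} (h : th g = ser P * g) (h0 : coeff 0 g = 0) : g = 0 := by
  ext1 n
  induction n using Nat.strong_induction_on with
  | _ n ih =>
    cases n with
    | zero => rw [h0, map_zero]
    | succ n =>
      have e := congrArg (coeff (n + 1)) h
      rw [coeff_th, coeff_ser_mul, Finset.sum_eq_zero fun i hi => by
        rw [ih _ (by omega), map_zero, mul_zero]] at e
      rw [map_zero]
      exact (smul_eq_zero.1 e).resolve_left (Nat.cast_ne_zero.2 (Nat.succ_ne_zero n))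

theorem nw_through {Q : ℕ → End ℂ V} {g : (End ℂ V)⟦X⟧} (h : ser Q * g = g * ser Q + th g) :
    mk (nw Q) * C (coeff 0 g) = g * mk (nw Q) := by
  refine sub_eq_zero.1 (uniq (P := Q) ?_ ?_)
  · rw [th_sub, th_mul, th_mul, th_C, th_nw, mul_zero, add_zero, mul_sub, ← mul_assoc, ← mul_assoc, ← mul_assoc, h, add_mul,
      add_comm]
  · simp [nw_zero]

/-- the Newton elements pass an operator which is shifted by the power sums -/
theorem nw_up {Q A : ℕ → End ℂ V} (h : ∀ j l, 0 < j → Q j * A l = A l * Q j + A (l + j)) (n : ℕ) :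
    nw Q n * A 0 = ∑ i ∈ Finset.range (n + 1), A i * nw Q (n - i) := by
  have e := nw_through (Q := Q) (g := mk A) (by
    ext1 m
    rw [map_add, coeff_ser_mul, coeff_mul_ser, coeff_th, coeff_mk]
    have : (m : ℂ) • A m = ∑ _i ∈ Finset.range m, A m := by
      rw [Finset.sum_const, Finset.card_range, Nat.cast_smul_eq_nsmul]
    rw [this, ← Finset.sum_add_distrib]
    refine Finset.sum_congr rfl fun i hi => ?_
    have := Finset.mem_range.1 hi
    rw [coeff_mk, h _ _ (Nat.succ_pos i), show m - 1 - i + (i + 1) = m by omega])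
  have e' := congrArg (coeff n) e
  rw [coeff_mul_C, coeff_mk, coeff_mk, coeff_mul,
    Finset.Nat.sum_antidiagonal_eq_sum_range_succ fun i j => coeff i (mk A) * coeff j (mk (nw Q))] at e'
  simpa only [coeff_mk] using e'

theorem nw_down {Q B : ℕ → End ℂ V} (h : ∀ j l, 0 < j → Q j * B l = B l * Q j - B (l + j)) (n : ℕ) :
    nw Q (n + 1) * B 0 = B 0 * nw Q (n + 1) - B 1 * nw Q n := by
  have e := nw_through (Q := Q) (g := C (B 0) - C (B 1) * X) (by
    ext1 m
    rw [mul_sub, sub_mul, ← mul_assoc, mul_assoc (C (B 1)), ← X_mul.symm, ← mul_assoc, map_add, coeff_th]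
    simp only [map_sub]
    cases m with
    | zero => simp [ser]
    | succ m =>
      rw [coeff_succ_mul_X, coeff_succ_mul_X, coeff_succ_mul_X, coeff_mul_C, coeff_mul_C, coeff_C_mul, coeff_C_mul,
        coeff_succ_C, coeff_C]
      simp only [ser, coeff_mk, Nat.succ_ne_zero, if_false]
      rw [h _ _ (Nat.succ_pos m)]
      cases m with
      | zero => simp [sub_eq_add_neg]
      | succ m =>
        simp only [Nat.succ_ne_zero, if_false]
        rw [h _ _ (Nat.succ_pos m), show 0 + (m + 1 + 1) = 1 + (m + 1) by omega]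
        simp)
  have e' := congrArg (coeff (n + 1)) e
  rw [coeff_mul_C, coeff_mk, sub_mul, mul_assoc, X_mul, ← mul_assoc, map_sub, map_sub, coeff_succ_mul_X, coeff_C_mul,
    coeff_C_mul, coeff_C_mul, coeff_mk, coeff_mk] at e'
  simpa using e'

/-- `[Y, h_m] = h_{m - j}` -/
theorem heis_nw {P : ℕ → End ℂ V} {Y : End ℂ V} {j : ℕ} (hj : 0 < j) {m : ℕ}
    (h : ∀ l, 0 < l → l ≤ m → Y * P l = P l * Y + (if j = l then (j : ℂ) else 0) • 1) :
    Y * nw P m = nw P m * Y + ez (nw P) ((m : ℤ) - j) := by
  induction m using Nat.strong_induction_on with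
  | _ m ih =>
    cases m with
    | zero => rw [nw_zero, ez, if_neg (by omega)]; simp
    | succ m =>
      have hm : ((m : ℂ) + 1) ≠ 0 := Nat.cast_add_one_ne_zero m
      refine smul_right_injective _ hm ?_
      simp only
      rw [smul_add, ← mul_smul_comm, ← smul_mul_assoc, nw_succ, Finset.mul_sum, Finset.sum_mul]
      have e : ∀ i ∈ Finset.range (m + 1), Y * (P (i + 1) * nw P (m - i)) = P (i + 1) * nw P (m - i) * Y +
          (P (i + 1) * ez (nw P) ((m - i : ℕ) - j) + (if j = i + 1 then (j : ℂ) else 0) • nw P (m - i)) := fun i hi => by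
        have := Finset.mem_range.1 hi
        rw [← mul_assoc, h _ (by omega) (by omega), add_mul, mul_assoc,
          ih (m - i) (by omega) fun l h1 h2 => h l h1 (by omega), mul_add, smul_mul_assoc, one_mul, mul_assoc, add_assoc]
      rw [Finset.sum_congr rfl e, Finset.sum_add_distrib, Finset.sum_add_distrib]
      congr 1
      by_cases hjm : j ≤ m + 1
      · obtain ⟨t, ht⟩ : ∃ t, m + 1 = t + j := ⟨m + 1 - j, by omega⟩
        have e1 : ∑ i ∈ Finset.range (m + 1), (if j = i + 1 then (j : ℂ) else 0) • nw P (m - i) = (j : ℂ) • nw P t := by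
          rw [Finset.sum_eq_single (j - 1), if_pos (by omega), show m - (j - 1) = t by omega]
          · intro i _ hi
            rw [if_neg (by omega), zero_smul]
          · intro hi
            exact (hi (Finset.mem_range.2 (by omega))).elim
        have e2 : ∑ i ∈ Finset.range (m + 1), P (i + 1) * ez (nw P) ((m - i : ℕ) - j) = (t : ℂ) • nw P t := by
          cases t with
          | zero =>
            rw [Finset.sum_eq_zero fun i hi => by rw [ez, if_neg (by omega), mul_zero]]; simp
          | succ t =>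
            rw [Nat.cast_succ, nw_succ]
            symm
            refine Finset.sum_subset_zero_on_sdiff (Finset.range_subset_range.2 (by omega)) (fun i hi => ?_) fun i hi => ?_
            · simp only [Finset.mem_sdiff, Finset.mem_range] at hi
              rw [ez, if_neg (by omega), mul_zero]
            · have := Finset.mem_range.1 hi
              rw [ez, if_pos (by omega), show (((m - i : ℕ) : ℤ) - j).toNat = t - i by omega]
        have e3 : (m : ℂ) + 1 = t + j := by exact_mod_cast ht
        rw [e1, e2, ez, if_pos (by omega), show (((m + 1 : ℕ) : ℤ) - j).toNat = t by omega, ← add_smul, e3]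
      · rw [Finset.sum_eq_zero fun i hi => by rw [ez, if_neg (by omega), mul_zero],
          Finset.sum_eq_zero fun i hi => by
            have := Finset.mem_range.1 hi
            rw [if_neg (by omega), zero_smul], ez, if_neg (by omega)]
        simp

/-- `H*(y) H(z) = (1 - y z)⁻¹ H(z) H*(y)` -/
theorem nw_nw {P Q : ℕ → End ℂ V} {a m n : ℕ} (hm : m ≤ a) (hn : n ≤ a)
    (h : ∀ j l, 0 < j → j ≤ a → 0 < l → l ≤ a → Q j * P l = P l * Q j + (if j = l then (j : ℂ) else 0) • 1) :
    nw Q n * nw P m = ∑ i ∈ Finset.range (n + 1), ez (nw P) ((m : ℤ) - i) * nw Q (n - i) := by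
  have hq : ∀ t ≤ a, nw Q t = nw (fun j => if j ≤ a then Q j else 0) t := fun t ht =>
    nw_congr fun j _ h2 => by rw [if_pos (by omega)]
  have e := nw_up (Q := fun j => if j ≤ a then Q j else 0) (A := fun l => ez (nw P) ((m : ℤ) - l)) (fun j l hj => by
    by_cases hja : j ≤ a
    · rw [if_pos hja]
      by_cases hl : l ≤ m
      · have e1 : ez (nw P) ((m : ℤ) - l) = nw P (m - l) := by
          rw [ez, if_pos (by omega), show ((m : ℤ) - l).toNat = m - l by omega]
        rw [e1, heis_nw hj fun t h1 h2 => h j t hj hja h1 (by omega)]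
        congr 2
        omega
      · rw [ez, if_neg (by omega), ez, if_neg (by omega)]; simp
    · have e1 : ez (nw P) ((m : ℤ) - (l + j : ℕ)) = 0 := by rw [ez, if_neg (by omega)]
      rw [if_neg hja, e1]; simp) n
  have e0 : ez (nw P) ((m : ℤ) - (0 : ℕ)) = nw P m := by rw [ez, if_pos (by omega)]; simp
  rw [e0, ← hq n hn] at e
  rw [e]
  exact Finset.sum_congr rfl fun i _ => by rw [← hq _ (by omega)]

/-- multiplicativity -/
theorem nw_add {P Q : ℕ → End ℂ V} (hc : ∀ j l, Commute (Q j) (P l)) (n : ℕ) :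
    nw (fun j => P j + Q j) n = ∑ i ∈ Finset.range (n + 1), nw P i * nw Q (n - i) := by
  have h1 : ser (fun j => P j + Q j) = ser P + ser Q := by
    ext1 m
    simp only [ser, map_add, coeff_mk]
    split_ifs <;> simp
  have h2 : mk (nw P) * ser Q = ser Q * mk (nw P) := by
    ext1 m
    rw [coeff_ser_mul, coeff_mul_ser]
    exact Finset.sum_congr rfl fun i _ => by rw [coeff_mk, (nw_comm fun l _ _ => hc (i + 1) l).eq]
  have e : mk (nw fun j => P j + Q j) - mk (nw P) * mk (nw Q) = 0 := uniq (P := fun j => P j + Q j) (by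
    rw [th_sub, th_mul, th_nw, th_nw, th_nw, mul_sub, h1, ← mul_assoc, h2, add_mul (ser P) (ser Q) (_ * _), mul_assoc,
      mul_assoc]) (by simp [nw_zero])
  have e' := congrArg (coeff n) (sub_eq_zero.1 e)
  rw [coeff_mk, coeff_mul,
    Finset.Nat.sum_antidiagonal_eq_sum_range_succ fun i j => coeff i (mk (nw P)) * coeff j (mk (nw Q))] at e'
  simpa only [coeff_mk] using e'

end Cfsg.Agent.PQ.Mn
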