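import Cfsg.Agent.PQ.Mn.Lat

/-!
# PQ theta, box MAIN: the characters of the principal block lie in the lattice (helper22)
-/

set_option autoImplicit false
set_option linter.unusedSectionVars false

namespace Cfsg.Agent.PQ.Mn

open Module Cfsg.Agent.PQ.Th Cfsg.Agent.PQ.Rel
open scoped ComplexConjugate

attribute [local instance] Loc.fI Loc.dI

variable {V : Type} [AddCommGroup V] [Module ℂ V] {H : HS V} {C : Cyc H}

/-! ### the principal characters -/

theorem T_gr (d : ℤ) : Gr H (C.T d) d := (hom_gr (C.R_hom d)).add (L_gr C d)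

theorem J_T (d : ℤ) (u : V) : H.J (C.T d u) = -C.T d (H.J u) := by
  have h1 := LinearMap.congr_fun (J_anti (hom_df (C.R_hom d)) od_one) u
  have h2 := LinearMap.congr_fun (J_anti (L_df C d) od_neg_one) u
  simp only [End.mul_apply, LinearMap.neg_apply] at h1 h2
  simp only [Cyc.T, LinearMap.add_apply, map_add, h1, h2, neg_add]

theorem o_gr : H.b C.o ∈ H.gr 0 := b_mem (by rw [C.o_rk]; rfl)

theorem o_cmp : H.b C.o ∈ H.cmp 1 := b_mem C.o_df

theorem od1 : Od 1 := Or.inl rfl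

theorem ip_bb {G : HS V} (i : G.ι) : G.ip (G.b i) (G.b i) = 1 := by rw [ip_b_right]; simp

theorem J_o : H.J (H.b C.o) = H.b C.o := by rw [J_apply o_cmp, if_pos od1]

theorem on_gr {on : ℤ → V} (h : on = C.oe ∨ on = C.oo) (m : ℤ) : on m ∈ H.gr m := by
  rcases h with rfl | rfl
  · simpa [Cyc.oe] using T_gr m _ _ (o_gr (C := C))
  · simpa [Cyc.oo] using T_gr m _ _ (T_gr 0 _ _ (o_gr (C := C)))

theorem on_J {on : ℤ → V} (h : on = C.oe ∨ on = C.oo) (m : ℤ) : H.J (on m) = on m ∨ H.J (on m) = -on m := by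
  rcases h with rfl | rfl
  · exact Or.inr (by rw [Cyc.oe, J_T, J_o])
  · exact Or.inl (by rw [Cyc.oo, J_T, J_T, J_o, map_neg, neg_neg])

theorem ps_f (x : ℤ) : C.ps (false, x) = Cyc.up (H := H) (C.X C.R) x := rfl

theorem ps_t (x : ℤ) : C.ps (true, x) = Cyc.up (H := H) (fun d => C.X C.L d * H.J) x := rfl

theorem ps_t_Om (m : ℤ) : C.ps (true, m) C.Om = Finsupp.single 1 (C.L m (H.b C.o)) := by
  rw [ps_t, Cyc.Om, up_single _ _ _ o_cmp, if_pos od1, End.mul_apply, J_o, X_zero C _ _ o_gr, zero_add, sub_zero]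

theorem single_oe (m : ℤ) : Finsupp.single 1 (C.oe m) = C.ps (false, m) C.Om + C.ps (true, m) C.Om := by
  rw [ps_t_Om, ps_f, Cyc.Om, up_single _ _ _ o_cmp, if_pos od1, X_zero C _ _ o_gr, zero_add, sub_zero,
    ← Finsupp.single_add]
  rfl

theorem single_oo (m : ℤ) : Finsupp.single 1 (C.oo m) =
    C.ps (false, m + 1) (C.ps (true, 0) C.Om) - C.ps (true, m + 1) (C.ps (true, 0) C.Om) := by
  have h1 : C.L 0 (H.b C.o) ∈ H.gr 0 := by simpa using L_gr C 0 _ _ (o_gr (C := C))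
  have h2 : C.L 0 (H.b C.o) ∈ H.cmp 0 := by simpa using L_df C 0 _ _ (o_cmp (C := C))
  have h3 : ¬ Od 0 := by unfold Od; decide
  have h4 : C.T 0 (H.b C.o) = C.L 0 (H.b C.o) := by rw [Cyc.T, LinearMap.add_apply, C.o_R, zero_add]
  rw [ps_t_Om, ps_f, ps_t, up_single _ _ _ h2, up_single _ _ _ h2, if_neg h3, End.mul_apply, J_apply h2, if_neg h3, map_neg,
    X_zero C _ _ h1, X_zero C _ _ h1, add_zero, add_sub_cancel_right, ← Finsupp.single_sub, sub_neg_eq_add, Cyc.oo, h4]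
  rfl

variable (P : Loc C) (A : Ar P.k P.I) {J : Type} [Fintype J] [DecidableEq J] (rep : J → ZMod (A.p ^ A.b))

/-- the filtration by the weight of the labels -/
noncomputable def Wp (w : ℕ) : Submodule ℂ (ℤ →₀ V) :=
  Submodule.span ℂ {u | ∃ l m, (∃ w' ≤ w, m ∈ Mon (fun t => P.PL A (rep t)) C.Om w') ∧ u = wd C l m}

/-- the indicator of the `p`-singular classes -/
noncomputable def oneS : P.I → ℂ := fun i => if A.ζ i = 0 then 0 else 1

variable {P A rep}

theorem Wp_mono {w w' : ℕ} (h : w ≤ w') : Wp P A rep w ≤ Wp P A rep w' :=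
  Submodule.span_mono fun _ ⟨l, m, ⟨a, h1, h2⟩, h3⟩ => ⟨l, m, ⟨a, h1.trans h, h2⟩, h3⟩

theorem fm_Wp (y : Bool × Site) {w : ℕ} {u : ℤ →₀ V} (hu : u ∈ Wp P A rep w) : fm C y u ∈ Wp P A rep w := by
  refine cmap _ ?_ hu
  rintro _ ⟨l, m, h1, rfl⟩
  exact Submodule.subset_span ⟨y :: l, m, h1, rfl⟩

theorem ps_Wp (c : Site) {w : ℕ} {u : ℤ →₀ V} (hu : u ∈ Wp P A rep w) : C.ps c u ∈ Wp P A rep w := fm_Wp (true, c) hu

theorem pt_Wp (c : Site) {w : ℕ} {u : ℤ →₀ V} (hu : u ∈ Wp P A rep w) : C.pt c u ∈ Wp P A rep w := fm_Wp (false, c) hu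

theorem Om_Wp : C.Om ∈ Wp P A rep 0 := Submodule.subset_span ⟨[], C.Om, ⟨0, le_rfl, mon_nil _ _⟩, rfl⟩

theorem on_Wp {on : ℤ → V} (h : on = C.oe ∨ on = C.oo) (m : ℤ) : Finsupp.single 1 (on m) ∈ Wp P A rep 0 := by
  rcases h with rfl | rfl
  · rw [single_oe]
    exact add_mem (ps_Wp _ Om_Wp) (ps_Wp _ Om_Wp)
  · rw [single_oo]
    exact sub_mem (ps_Wp _ (ps_Wp _ Om_Wp)) (ps_Wp _ (ps_Wp _ Om_Wp))

theorem oneS_eq [NeZero (A.p ^ A.b)] {j : ℕ} (h0 : 0 < j) (hj : j ≤ A.a) :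
    oneS P A = (-(2 * P.k * (A.p : ℂ) ^ A.b)⁻¹) • ∑ c, P.wt A j c := by
  have hne : 2 * P.k * (A.p : ℂ) ^ A.b ≠ 0 :=
    mul_ne_zero (mul_ne_zero two_ne_zero (Nat.cast_ne_zero.2 P.k_pos.ne')) (pow_ne_zero _ (Nat.cast_ne_zero.2 A.pp.ne_zero))
  funext i
  rw [Pi.smul_apply, Finset.sum_apply]
  simp only [Loc.wt, Finset.sum_sub_distrib, sum_tau A P.k_pos, Finset.sum_const, Finset.card_univ, ZMod.card, oneS]
  by_cases e : A.ζ i = 0
  · simp [e, mul_comm]
  · rw [if_neg e, if_neg fun h => e (unit_j A h0 hj h), nsmul_eq_mul, smul_eq_mul, Nat.cast_pow, zero_sub,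
      neg_mul_neg, mul_comm ((A.p : ℂ) ^ A.b), inv_mul_cancel₀ hne]

namespace Cx

variable (h : Cx P A J rep)
include h

theorem pl_Wp {c : ZMod (A.p ^ A.b)} (hc : c ≠ 0) {j : ℕ} (h0 : 0 < j) (hj : j ≤ A.a) {w : ℕ} {u : ℤ →₀ V}
    (hu : u ∈ Wp P A rep w) : P.PL A c j u ∈ Wp P A rep (j + w) := by
  obtain ⟨t, s, rfl⟩ := h.surj c hc
  rw [PL_g]
  refine cmap _ ?_ hu
  rintro _ ⟨l, m, ⟨w', h1, h2⟩, rfl⟩
  rw [wd_comm (fun x => h.hei.pl_s _ j x (h.ne t) h0 hj) fun x => h.hei.pl_t _ j x (h.ne t) h0 hj]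
  exact Submodule.subset_span ⟨l, _, ⟨j + w', by omega, mon_cons h2 t h0⟩, rfl⟩

theorem dh_Wp {j : ℕ} (h0 : 0 < j) (hj : j ≤ A.a) {w : ℕ} {u : ℤ →₀ V} (hu : u ∈ Wp P A rep w) :
    P.Dh j (oneS P A) u ∈ Wp P A rep (j + w) := by
  have := nz A
  rw [oneS_eq h0 hj, Loc.Dh, map_smul, map_sum, mul_smul_comm, Finset.mul_sum, lf_eq, map_smul, map_sum,
    LinearMap.smul_apply, LinearMap.sum_apply]
  refine Submodule.smul_mem _ _ (sum_mem fun c _ => ?_)
  by_cases hc : c = 0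
  · have : P.wt A j c = 0 := funext fun i => by simp [Loc.wt, hc, tau_zero']
    simp [this]
  · have e : lfA (P.hat j * P.D j (P.wt A j c)) u = P.PL A c j u - P.aa Set.univ j u := by
      rw [Loc.PL, LinearMap.add_apply, add_sub_cancel_right]; rfl
    rw [e]
    refine sub_mem (h.pl_Wp hc h0 hj hu) (Wp_mono (Nat.le_add_left _ _) ?_)
    exact bo_mem h.car (sh_aa P h0) _ fun x _ => ps_Wp _ (pt_Wp _ hu)

/-- a basis vector which is not orthogonal to the filtration lies in the lattice -/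
theorem mem_Lz (hs : BoxSF) {y : H.fock.ι} {v : ℤ →₀ V} (hv : v ∈ Wp P A rep A.a) (h0 : H.fock.ip (H.fock.b y) v ≠ 0) :
    H.fock.b y ∈ Lz P A rep := by
  obtain ⟨_, ⟨l, m, ⟨w, h1, h2⟩, rfl⟩, h3⟩ := exists_ip (G := H.fock) 1 hv h0
  have e0 : H.fock.ip C.Om C.Om = 1 := by
    rw [Cyc.Om, ← fock_b]
    exact ip_bb (G := H.fock) _
  obtain ⟨s, s1, -, s3, s4, -⟩ := hs _ H.fock J (fun t => P.PL A (rep t)) (fun t => P.PLs A (rep t)) A.a C.Om
    (fun t j _ _ => h.hei.pl_adj _ _) (fun t t' j l => h.pp_pp (Sum.inr t) (Sum.inr t') j l) h.pls_pl e0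
    (fun t j h0 _ => pls_Om h.car _ h0) w h1
  obtain ⟨u, hu, h4⟩ := exists_ip (wd C l) (s4 ▸ Submodule.subset_span h2) h3
  have h5 : u ∈ C.Vac := by
    refine Submodule.span_le.2 (fun m hm => ?_) (s4 ▸ Submodule.subset_span hu)
    refine mon_ind (p := fun w u => w ≤ A.a → u ∈ C.Vac) (fun _ => h.car.om) (fun t j w u hj _ ih hw => ⟨fun c hc => ?_,
      fun c hc => ?_⟩) hm h1
    · rw [← End.mul_apply, ← (h.hei.pl_s _ j c (h.ne t) hj (by omega)).eq, End.mul_apply, (ih (by omega)).1 c hc, map_zero]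
    · rw [← End.mul_apply, ← (h.hei.pl_t _ j c (h.ne t) hj (by omega)).eq, End.mul_apply, (ih (by omega)).2 c hc, map_zero]
  have h6 : u ∈ MZ P A rep A.a := by
    refine Submodule.span_mono (fun m hm => ?_) (s3 ▸ Submodule.subset_span hu)
    exact ⟨w, h1, hm⟩
  have h7 := wd_Lz l h6
  obtain ⟨z, hz⟩ := h.Lz_Z h7 y
  have h8 := ((pure_wd h.car l (pure_vac h5)).2.resolve_left fun e => h4 (by rw [e, ip_zero_right])).trans (s1 u hu)
  rcases unit_int h8 hz (fun e => h4 (by rw [ip_b_left, hz, e]; simp)) with e | e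
  · exact e ▸ h7
  · rw [← neg_mem_iff]; exact e ▸ h7

end Cx

/-! ### the sum over the `p`-regular elements -/

theorem mul_reg {j : ℕ} (hj : 0 < j) : P.mul (fun v => if ∀ i, A.ζ i ≠ 0 → v i = 0 then 1 else 0) * P.D j 1 =
    P.D j (1 - oneS P A) * P.mul fun v => if ∀ i, A.ζ i ≠ 0 → v i = 0 then 1 else 0 := by
  have e0 : ∀ α : P.I → ℂ, P.D j α = ∑ i, α i • P.D j (Pi.single i 1) := fun α => by
    conv_lhs => rw [pi_eq_sum_univ' α, map_sum]
    simp only [map_smul]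
  rw [e0 (1 - oneS P A), e0 1, Finset.mul_sum, Finset.sum_mul]
  refine Finset.sum_congr rfl fun i _ => ?_
  rw [Pi.one_apply, one_smul, P.mul_D, Pi.sub_apply, Pi.one_apply, oneS]
  by_cases e : A.ζ i = 0
  · rw [if_pos e, sub_zero, one_smul]
    congr 2
    funext v
    refine if_congr (forall_congr' fun i' => forall_congr' fun hi => ?_) rfl rfl
    rw [Pi.add_apply, Pi.single_eq_of_ne (fun e' : i' = i => hi (by rw [e', e])), add_zero]
  · rw [if_neg e, sub_self, zero_smul, zero_mul]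
    by_cases hd : P.d i ∣ j
    · have : (fun v : P.I → ℕ => if ∀ i', A.ζ i' ≠ 0 → (v + Pi.single i (j / P.d i) : P.I → ℕ) i' = 0 then (1 : ℂ) else 0) = 0 := by
        funext v
        rw [if_neg, Pi.zero_apply]
        intro h
        have h1 := h i e
        have h2 := Nat.div_pos (Nat.le_of_dvd hj hd) (P.d_pos i)
        rw [Pi.add_apply, Pi.single_eq_same] at h1
        omega
      rw [this, map_zero, mul_zero]
    · rw [P.D_ndvd j i hd, zero_mul]

/-- monomials in the singular local operators applied to the principal characters -/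
noncomputable def TT (P : Loc C) (A : Ar P.k P.I) (on : ℤ → V) (m : ℤ) : Submodule ℂ V :=
  Submodule.span ℂ {u | ∃ w : ℕ, u ∈ Mon (fun (_ : Unit) j => P.D j (oneS P A)) (on (m - P.k * w)) w}

theorem nw_TT (on : ℤ → V) (m : ℤ) (n : ℕ) {u : V} (hu : u ∈ TT P A on m) :
    nw (fun j => P.D j (oneS P A)) n u ∈ TT P A on (m + P.k * n) := by
  have := nw_mem (P := fun j => P.D j (oneS P A)) (fun w => TT P A on (m + P.k * w)) (fun j w hj u hu => by
    refine cmap _ ?_ hu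
    rintro v ⟨s, hs⟩
    refine Submodule.subset_span ⟨j + s, ?_⟩
    have e : m + P.k * (w + j : ℕ) - P.k * (j + s : ℕ) = m + P.k * w - P.k * s := by push_cast; ring
    rw [e]
    exact mon_cons hs () hj) n 0 u (by simpa using hu)
  rwa [zero_add] at this

theorem reg_TT {on : ℤ → V} (hg : ∀ m, on m ∈ H.gr m)
    (ho : ∀ n : ℕ, on n = ∑ j ∈ Finset.range (n + 1), nw (fun j => P.D j 1) j (P.mul (Pi.single 0 1) (on (n - P.k * j))))
    (m : ℤ) : P.mul (fun v => if ∀ i, A.ζ i ≠ 0 → v i = 0 then 1 else 0) (on m) ∈ TT P A on m := by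
  have hk : ∀ j : ℕ, (j : ℤ) ≤ P.k * j := fun j => by exact_mod_cast Nat.le_mul_of_pos_left j P.k_pos
  have f1 : ∀ (N : ℕ) (m : ℤ), m ≤ N →
      on m = ∑ j ∈ Finset.range (N + 1), nw (fun j => P.D j 1) j (P.mul (Pi.single 0 1) (on (m - P.k * j))) := fun N m hm => by
    by_cases h0 : m < 0
    · rw [gr_neg h0 (hg m), Finset.sum_eq_zero fun j _ => by
        rw [gr_neg (by have := hk j; omega) (hg _), map_zero, map_zero]]
    · obtain ⟨n, rfl⟩ := Int.eq_ofNat_of_zero_le (not_lt.1 h0)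
      rw [ho n]
      refine Finset.sum_subset (Finset.range_subset_range.2 (by omega)) fun j _ hj => ?_
      rw [Finset.mem_range] at hj
      rw [gr_neg (by have := hk j; omega) (hg _), map_zero, map_zero]
  set ρ : (P.I → ℕ) → ℂ := fun v => if ∀ i, A.ζ i ≠ 0 → v i = 0 then 1 else 0 with hρ
  have f2 : ∀ (N : ℕ) (m : ℤ), m ≤ N → P.mul ρ (on m) =
      ∑ j ∈ Finset.range (N + 1), nw (fun j => P.D j (1 - oneS P A)) j (P.mul (Pi.single 0 1) (on (m - P.k * j))) :=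
    fun N m hm => by
      rw [f1 N m hm, map_sum]
      refine Finset.sum_congr rfl fun j _ => ?_
      have e : ρ * Pi.single 0 1 = Pi.single 0 1 := by
        funext v
        by_cases e : v = 0
        · simp [e, hρ]
        · simp [e]
      rw [← End.mul_apply, nw_semi fun j hj _ => mul_reg hj, End.mul_apply, ← End.mul_apply (P.mul ρ), ← map_mul, e]
  have f3 : ∀ (N : ℕ) (m : ℤ), m ≤ N →
      on m = ∑ i ∈ Finset.range (N + 1), nw (fun j => P.D j (oneS P A)) i (P.mul ρ (on (m - P.k * i))) := fun N m hm => by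
    have e : (fun j => P.D j 1) = fun j => P.D j (oneS P A) + P.D j (1 - oneS P A) := by
      funext j; rw [← map_add, add_sub_cancel]
    rw [f1 N m hm, e]
    have e1 := Finset.sum_range_diag_flip (N + 1) fun i l => nw (fun j => P.D j (oneS P A)) i
      (nw (fun j => P.D j (1 - oneS P A)) l (P.mul (Pi.single 0 1) (on (m - P.k * (i + l : ℕ)))))
    refine Eq.trans (Finset.sum_congr rfl fun j _ => ?_) (e1.trans (Finset.sum_congr rfl fun i hi => ?_))
    · rw [nw_add fun j l => P.DD _ _ _ _, LinearMap.sum_apply]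
      refine Finset.sum_congr rfl fun i hi => ?_
      rw [Finset.mem_range] at hi
      rw [End.mul_apply, show i + (j - i) = j by omega]
    · rw [Finset.mem_range] at hi
      rw [f2 (N - i) _ (by have := hk i; omega), map_sum, show N + 1 - i = N - i + 1 by omega]
      refine Finset.sum_congr rfl fun l _ => ?_
      congr 4
      push_cast; ring
  have f4 : ∀ (N : ℕ) (m : ℤ), m < N → P.mul ρ (on m) ∈ TT P A on m := fun N => by
    induction N with
    | zero => intro m hm; rw [gr_neg hm (hg m), map_zero]; exact zero_mem _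
    | succ N ih =>
      intro m hm
      have e := f3 N m (by omega)
      rw [Finset.sum_range_succ', nw_zero, End.one_apply, Nat.cast_zero, mul_zero, sub_zero] at e
      rw [← sub_eq_iff_eq_add'.2 e]
      refine sub_mem (Submodule.subset_span ⟨0, by simpa using mon_nil _ (on m)⟩) (sum_mem fun i _ => ?_)
      have := nw_TT on _ (i + 1) (ih (m - P.k * (i + 1 : ℕ)) (by have := hk (i + 1); omega))
      rwa [sub_add_cancel] at this
  exact f4 (m.toNat + 1) m (by omega)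

theorem low_mon {x : H.ι} {r : ℕ} {deg : V →ₗ[ℂ] ℂ} (ht : Tgt P A x r deg) {α : P.I → ℂ} {κ u : V} {w : ℕ} (hw : A.a < w)
    (hκ : κ ∈ H.gr (H.rk x - P.k * w)) (hu : u ∈ Mon (fun (_ : Unit) j => P.D j α) κ w) : H.b.repr u x = 0 := by
  obtain ⟨M, h1, h2, rfl⟩ : ∃ M : End ℂ V, Df H M (sh P.ng w) ∧ True ∧ u = M κ :=
    mon_ind (p := fun w u => ∃ M : End ℂ V, Df H M (sh P.ng w) ∧ True ∧ u = M κ) ⟨1, Df.one.cast (sh_zero _).symm, trivial, rfl⟩
      (fun _ j w u _ _ ⟨M, h1, _, h3⟩ => ⟨P.D j α * M, ((hom_df (P.D_hom j α)).mul h1).cast (by rw [sh_add, add_comm]),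
        trivial, by rw [h3]; rfl⟩) hu
  refine map_sup (S := H.sup fun i => i ≠ x) (fun y hy i hi => ?_) hκ x (fun e => e rfl)
  rw [not_not.1 hi]
  refine h1 _ _ (b_cmp y) x fun e => ht.low y (w - A.a) (by omega) ?_ ?_
  · rw [show A.a + (w - A.a) = w by omega]
    have : (H.rk y : ℤ) + P.k * w = H.rk x := by rw [hy]; ring
    exact_mod_cast this
  · rw [show A.a + (w - A.a) = w by omega, e, add_assoc]
    conv_rhs => rw [← neg_sh P.ng w, add_comm (-_), neg_sh]
    nth_rewrite 2 [← neg_sh P.ng w]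
    rw [add_neg_cancel, add_zero]

theorem Cx.x_mem (h : Cx P A J rep) (hs : BoxSF) {x : H.ι} {r : ℕ} {deg : V →ₗ[ℂ] ℂ} (ht : Tgt P A x r deg) :
    H.fock.b ⟨1, x⟩ ∈ Lz P A rep := by
  obtain ⟨on, h1, h2, h3⟩ := ht.reg
  obtain ⟨u, ⟨w, hu⟩, h4⟩ := exists_ip (G := H) 1 (reg_TT (A := A) (on_gr h1) h2 (H.rk x)) h3
  rw [End.one_apply, ip_b_left] at h4
  have hw : w ≤ A.a := by
    by_contra e
    exact h4 (by rw [low_mon ht (not_le.1 e) (on_gr h1 _) hu, map_zero])
  have h5 := mon_ind (p := fun w u => (H.J u = u ∨ H.J u = -u) ∧ (w ≤ A.a → Finsupp.single 1 u ∈ Wp P A rep w))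
    ⟨on_J h1 _, fun _ => on_Wp h1 _⟩ (fun _ j w u hj _ ih => by
      have e : H.J (P.D j (oneS P A) u) = P.D j (oneS P A) u ∨ H.J (P.D j (oneS P A) u) = -P.D j (oneS P A) u := by
        rw [← End.mul_apply, J_comm (hom_df (P.D_hom j _)) (od_sh _ _), End.mul_apply]
        exact ih.1.imp (fun e => by rw [e]) fun e => by rw [e, map_neg]
      refine ⟨e, fun hw => ?_⟩
      have := h.dh_Wp hj (by omega) (ih.2 (by omega))
      rw [Loc.Dh, lf_single, End.mul_apply] at this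
      rcases hat_apply P j e with e' | e'
      · rwa [e'] at this
      · rwa [e', Finsupp.single_neg, neg_mem_iff] at this) hu
  refine h.mem_Lz hs (Wp_mono hw (h5.2 hw)) ?_
  refine (ip_b_left (H := H.fock) _ _).trans_ne ?_
  rwa [fock_repr, Finsupp.single_eq_same]

end Cfsg.Agent.PQ.Mn
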