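import Cfsg.Agent.PQ.Mn.Hs

/-!
# PQ theta, box MAIN: runners and orbit representatives of labels (helper22)
-/

set_option autoImplicit false
set_option linter.unusedSectionVars false

namespace Cfsg.Agent.PQ.Mn

open Module Cfsg.Agent.PQ.Th Cfsg.Agent.PQ.Rel
open scoped ComplexConjugate

attribute [local instance] Loc.fI Loc.dI

variable {V : Type} [AddCommGroup V] [Module ℂ V] {H : HS V} {C : Cyc H}

theorem adj_sub {G : HS V} {A B A' B' : End ℂ V} (h : G.Adj A B) (h' : G.Adj A' B') : G.Adj (A - A') (B - B') := by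
  rw [sub_eq_add_neg, sub_eq_add_neg]; exact adj_add h (adj_neg h')

theorem adj_ite {G : HS V} {A B : End ℂ V} (h : G.Adj A B) (p : Prop) [Decidable p] :
    G.Adj (if p then A else 0) (if p then B else 0) := by
  split_ifs
  exacts [h, adj_zero]

/-- the hypotheses -/
structure Cx (P : Loc C) (A : Ar P.k P.I) (J : Type) (rep : J → ZMod (A.p ^ A.b)) : Prop where
  car : CAR C
  rel : Rel P
  hei : Hei P A
  int : P.IntH A
  ne : ∀ i, rep i ≠ 0
  inj : ∀ i i', (∃ s : ℕ, rep i' = A.g ^ s * rep i) ↔ i = i'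
  surj : ∀ c, c ≠ 0 → ∃ i, ∃ s : ℕ, c = A.g ^ s * rep i

variable {P : Loc C} {A : Ar P.k P.I}

theorem PL_g (s : ℕ) (c : ZMod (A.p ^ A.b)) (j : ℕ) : P.PL A (A.g ^ s * c) j = P.PL A c j := by
  unfold Loc.PL Loc.wt
  simp only [tau_g]

section
variable (hc : CAR C) (hh : Hei P A)
include hc hh

open Classical in
theorem as_s (ρ : Set (Bool × ZMod P.k)) {j : ℕ} (hj : 0 < j) (c : Site) : P.as (P.run ⁻¹' ρ) j * C.ps (P.sig j c) =
    C.ps (P.sig j c) * P.as (P.run ⁻¹' ρ) j + if P.run c ∈ ρ then C.ps c else 0 := by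
  have h1 := adj_mul (hh.aa_adj (P.run ⁻¹' ρ) j) (adj_symm (hc.adj (P.sig j c)))
  rw [hh.aa_t ρ j c hj] at h1
  have h2 := adj_sub (adj_mul (adj_symm (hc.adj (P.sig j c))) (hh.aa_adj (P.run ⁻¹' ρ) j))
    (adj_ite (adj_symm (hc.adj c)) (P.run c ∈ ρ))
  rw [adj_unique h1 h2, sub_add_cancel]

open Classical in
theorem as_t (ρ : Set (Bool × ZMod P.k)) {j : ℕ} (hj : 0 < j) (c : Site) : P.as (P.run ⁻¹' ρ) j * C.pt c =
    C.pt c * P.as (P.run ⁻¹' ρ) j - if P.run c ∈ ρ then C.pt (P.sig j c) else 0 := by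
  have h1 := adj_mul (hh.aa_adj (P.run ⁻¹' ρ) j) (hc.adj c)
  rw [hh.aa_s ρ j c hj] at h1
  have h2 := adj_add (adj_mul (hc.adj c) (hh.aa_adj (P.run ⁻¹' ρ) j)) (adj_ite (hc.adj (P.sig j c)) (P.run c ∈ ρ))
  rw [adj_unique h1 h2, add_sub_cancel_right]

theorem pls_s {c : ZMod (A.p ^ A.b)} (h : c ≠ 0) {j : ℕ} (h0 : 0 < j) (hj : j ≤ A.a) (x : Site) :
    Commute (P.PLs A c j) (C.ps x) := adj_comm (hh.pl_adj c j) (adj_symm (hc.adj x)) (hh.pl_t c j x h h0 hj)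

theorem pls_t {c : ZMod (A.p ^ A.b)} (h : c ≠ 0) {j : ℕ} (h0 : 0 < j) (hj : j ≤ A.a) (x : Site) :
    Commute (P.PLs A c j) (C.pt x) := adj_comm (hh.pl_adj c j) (hc.adj x) (hh.pl_s c j x h h0 hj)

theorem pl_aa {c : ZMod (A.p ^ A.b)} (h : c ≠ 0) {j : ℕ} (h0 : 0 < j) (hj : j ≤ A.a) (S : Set Site) {l : ℕ} (hl : 0 < l) :
    Commute (P.PL A c j) (P.aa S l) :=
  bo_comm hc (sh_aa P hl) S (fun x => hh.pl_s c j x h h0 hj) fun x => hh.pl_t c j x h h0 hj

theorem pl_as {c : ZMod (A.p ^ A.b)} (h : c ≠ 0) {j : ℕ} (h0 : 0 < j) (hj : j ≤ A.a) (S : Set Site) {l : ℕ} (hl : 0 < l) :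
    Commute (P.PL A c j) (P.as S l) :=
  bo_comm hc (sh_as P hl) S (fun x => hh.pl_s c j x h h0 hj) fun x => hh.pl_t c j x h h0 hj

theorem pls_aa {c : ZMod (A.p ^ A.b)} (h : c ≠ 0) {j : ℕ} (h0 : 0 < j) (hj : j ≤ A.a) (S : Set Site) {l : ℕ} (hl : 0 < l) :
    Commute (P.PLs A c j) (P.aa S l) :=
  bo_comm hc (sh_aa P hl) S (pls_s hc hh h h0 hj) (pls_t hc hh h h0 hj)

omit hh in
theorem pls_Om (c : ZMod (A.p ^ A.b)) {j : ℕ} (h0 : 0 < j) : P.PLs A c j C.Om = 0 := by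
  rw [Loc.PLs, LinearMap.add_apply, Dsh_Om P h0, as_vac P hc _ h0 hc.om, add_zero]

omit hc in
theorem as_univ [NeZero P.k] (j : ℕ) : P.as Set.univ j = ∑ ρ, P.as (P.run ⁻¹' {ρ}) j := by
  rw [hh.as_sum, finsum_eq_sum_of_fintype]

omit hc in
theorem as_aa_univ {j l : ℕ} (hj : 0 < j) (hl : 0 < l) : P.as Set.univ j * P.aa Set.univ l =
    P.aa Set.univ l * P.as Set.univ j + (if j = l then (j : ℂ) * (2 * P.k) else 0) • 1 := by
  have : NeZero P.k := ⟨P.k_pos.ne'⟩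
  rw [as_univ hh, hh.aa_sum, finsum_eq_sum_of_fintype, Finset.sum_mul_sum, Finset.sum_mul_sum,
    Finset.sum_comm (f := fun i j' => P.aa (P.run ⁻¹' {i}) l * P.as (P.run ⁻¹' {j'}) j)]
  simp only [hh.as_aa _ _ j l hj hl, Finset.sum_add_distrib, ← Finset.sum_smul]
  congr 2
  split_ifs with h
  · simp [h, mul_comm]
  · simp [h]

end

variable {J : Type} [Fintype J] [DecidableEq J] {rep : J → ZMod (A.p ^ A.b)}

/-- the raising operators of the runners and of the labels -/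
noncomputable def PP (P : Loc C) (A : Ar P.k P.I) (rep : J → ZMod (A.p ^ A.b)) (i : (Bool × ZMod P.k) ⊕ J) :
    ℕ → End ℂ (ℤ →₀ V) := i.elim (fun ρ => P.aa (P.run ⁻¹' {ρ})) fun t => P.PL A (rep t)

/-- the lowering operators of the runners and of the labels -/
noncomputable def PS (P : Loc C) (A : Ar P.k P.I) (rep : J → ZMod (A.p ^ A.b)) (i : (Bool × ZMod P.k) ⊕ J) :
    ℕ → End ℂ (ℤ →₀ V) := i.elim (fun ρ => P.as (P.run ⁻¹' {ρ})) fun t => P.PLs A (rep t)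

namespace Cx

variable (h : Cx P A J rep)
include h

theorem pp_adj (i : (Bool × ZMod P.k) ⊕ J) (j : ℕ) : H.fock.Adj (PP P A rep i j) (PS P A rep i j) := by
  cases i
  exacts [h.hei.aa_adj _ _, h.hei.pl_adj _ _]

theorem pp_pp (i i' : (Bool × ZMod P.k) ⊕ J) (j l : ℕ) (h1 : 0 < j) (h2 : j ≤ A.a) (h3 : 0 < l) (h4 : l ≤ A.a) :
    Commute (PP P A rep i j) (PP P A rep i' l) := by
  cases i <;> cases i'
  exacts [h.hei.aa_aa _ _ _ _ h1 h3, (pl_aa h.car h.hei (h.ne _) h3 h4 _ h1).symm, pl_aa h.car h.hei (h.ne _) h1 h2 _ h3,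
    h.hei.pl_pl _ _ _ _ (h.ne _) (h.ne _) h1 h2 h3 h4]

theorem pls_pl (t t' : J) (j l : ℕ) (h1 : 0 < j) (h2 : j ≤ A.a) (h3 : 0 < l) (h4 : l ≤ A.a) :
    P.PLs A (rep t) j * P.PL A (rep t') l = P.PL A (rep t') l * P.PLs A (rep t) j +
      (if j = l ∧ t = t' then (j : ℂ) else 0) • 1 := by
  rw [h.hei.pls_pl _ _ _ _ (h.ne _) (h.ne _) h1 h2 h3 h4]
  simp only [h.inj]

theorem ps_pp (i i' : (Bool × ZMod P.k) ⊕ J) (j l : ℕ) (h1 : 0 < j) (h2 : j ≤ A.a) (h3 : 0 < l) (h4 : l ≤ A.a) :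
    PS P A rep i j * PP P A rep i' l = PP P A rep i' l * PS P A rep i j + (if j = l ∧ i = i' then (j : ℂ) else 0) • 1 := by
  cases i <;> cases i'
  · simpa only [Sum.inl.injEq, PS, PP, Sum.elim_inl] using h.hei.as_aa _ _ j l h1 h3
  · simpa [PS, PP] using (pl_as h.car h.hei (h.ne _) h3 h4 _ h1).symm.eq
  · simpa [PS, PP] using (pls_aa h.car h.hei (h.ne _) h1 h2 _ h3).eq
  · simpa only [Sum.inr.injEq, PS, PP, Sum.elim_inr] using h.pls_pl _ _ j l h1 h2 h3 h4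

theorem ps_hom (i : (Bool × ZMod P.k) ⊕ J) {j : ℕ} (hj : 0 < j) :
    Gr H.fock (PS P A rep i j) (-(P.k * j)) ∧ Df H.fock (PS P A rep i j) (sh P.ng j) := by
  cases i
  exacts [as_hom P h.car _ hj, ⟨(Dsh_gr P j _).add (as_hom P h.car _ hj).1, df_add (Dsh_df P j _) (as_hom P h.car _ hj).2⟩]

end Cx

/-- the difference between a local operator and its expression by runners and labels -/
noncomputable def dif (P : Loc C) (A : Ar P.k P.I) (rep : J → ZMod (A.p ^ A.b)) (i : P.I) (j : ℕ) : End ℂ (ℤ →₀ V) :=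
  nn P.ng P.q₀ j • P.Dsh j (Pi.single i 1) - P.as Set.univ j - ∑ t, A.τ (rep t) (j * A.ζ i) • P.PLs A (rep t) j

theorem sum_single {i : P.I} (hi : P.d i = 1) (j : ℕ) (β : P.I → ℂ) :
    ∑ i' with P.d i' ∣ j, conj ((Pi.single i 1 : P.I → ℂ) i') * β i' * P.d i' = β i := by
  rw [Finset.sum_eq_single i]
  · simp [hi]
  · intro i' _ h
    simp [h]
  · intro h
    simp [hi] at h

theorem nn_cf {i : P.I} (hi : P.d i = 1) {j : ℕ} (hj : 0 < j) : nn P.ng P.q₀ j * conj (P.cf j (Pi.single i 1)) = 1 := by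
  have e : ∑ i' with P.d i' ∣ j, (Pi.single i 1 : P.I → ℂ) i' * P.d i' = 1 := by
    rw [Finset.sum_eq_single i]
    · simp [hi]
    · intro i' _ h
      simp [h]
    · intro h
      simp [hi] at h
  rw [Loc.cf, e, map_div₀, map_one, nn_conj, mul_one_div_cancel (nn_ne _ P.two_le hj)]

namespace Cx

variable (h : Cx P A J rep) {i : P.I} (hi : P.d i = 1) {j : ℕ} (h0 : 0 < j)
include h hi h0

theorem y_s (c : Site) : Commute (nn P.ng P.q₀ j • P.Dsh j (Pi.single i 1) - P.as Set.univ j) (C.ps c) := by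
  have e := as_s h.car h.hei Set.univ h0 (sgi P j c)
  have e' := h.rel.s' j (Pi.single i 1) (sgi P j c)
  rw [sig_sgi', if_pos (Set.mem_univ _), Set.preimage_univ] at e
  rw [sig_sgi'] at e'
  rw [Commute, SemiconjBy, sub_mul, mul_sub, smul_mul_assoc, mul_smul_comm, e, e', smul_add, smul_smul, nn_cf hi h0, one_smul,
    add_sub_add_right_eq_sub]

theorem y_t (c : Site) : Commute (nn P.ng P.q₀ j • P.Dsh j (Pi.single i 1) - P.as Set.univ j) (C.pt c) := by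
  have e := as_t h.car h.hei Set.univ h0 c
  have e' := h.rel.t' j (Pi.single i 1) c
  rw [if_pos (Set.mem_univ _), Set.preimage_univ] at e
  rw [Commute, SemiconjBy, sub_mul, mul_sub, smul_mul_assoc, mul_smul_comm, e, e', smul_sub, smul_smul, nn_cf hi h0, one_smul,
    sub_sub_sub_cancel_right]

theorem dif_s (hj : j ≤ A.a) (c : Site) : Commute (dif P A rep i j) (C.ps c) :=
  (h.y_s hi h0 c).sub_left (Commute.sum_left _ _ _ fun t _ => (pls_s h.car h.hei (h.ne t) h0 hj c).smul_left _)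

theorem dif_t (hj : j ≤ A.a) (c : Site) : Commute (dif P A rep i j) (C.pt c) :=
  (h.y_t hi h0 c).sub_left (Commute.sum_left _ _ _ fun t _ => (pls_t h.car h.hei (h.ne t) h0 hj c).smul_left _)

theorem dif_pl (hj : j ≤ A.a) (t : J) {l : ℕ} (h3 : 0 < l) (h4 : l ≤ A.a) : Commute (dif P A rep i j) (P.PL A (rep t) l) := by
  have e1 : Commute (nn P.ng P.q₀ j • P.Dsh j (Pi.single i 1) - P.as Set.univ j) (P.aa Set.univ l) :=
    bo_comm h.car (sh_aa P h3) _ (h.y_s hi h0) (h.y_t hi h0)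
  have e2 := as_aa_univ h.hei h0 h3
  have e3 := Dsh_Dh P j l (Pi.single i 1) (P.wt A l (rep t))
  rw [sum_single hi] at e3
  have e4 := (pl_as h.car h.hei (h.ne t) h3 h4 Set.univ h0).eq
  have e5 : (∑ t', A.τ (rep t') (j * A.ζ i) • P.PLs A (rep t') j) * P.PL A (rep t) l =
      P.PL A (rep t) l * (∑ t', A.τ (rep t') (j * A.ζ i) • P.PLs A (rep t') j) +
        (if j = l then (j : ℂ) * A.τ (rep t) (j * A.ζ i) else 0) • 1 := by
    rw [Finset.sum_mul, Finset.mul_sum]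
    simp only [smul_mul_assoc, mul_smul_comm, h.pls_pl _ t j l h0 hj h3 h4, smul_add, Finset.sum_add_distrib, smul_smul,
      ← Finset.sum_smul]
    congr 2
    split_ifs with e
    · simp [e, mul_comm]
    · simp [e]
  have e6 : (nn P.ng P.q₀ j • P.Dsh j (Pi.single i 1)) * P.PL A (rep t) l =
      P.PL A (rep t) l * (nn P.ng P.q₀ j • P.Dsh j (Pi.single i 1)) +
        (if j = l then (j : ℂ) * A.τ (rep t) (j * A.ζ i) else 0) • 1 := by
    have e7 := e1.eq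
    rw [sub_mul, mul_sub, e2, sub_eq_iff_eq_add] at e7
    rw [Loc.PL, mul_add, add_mul, e7, smul_mul_assoc, e3, smul_add, mul_smul_comm, mul_smul_comm, smul_smul]
    have e8 : nn P.ng P.q₀ j * (if j = l then (j : ℂ) * P.wt A l (rep t) i / nn P.ng P.q₀ j else 0) =
        (if j = l then (j : ℂ) * A.τ (rep t) (j * A.ζ i) else 0) - if j = l then (j : ℂ) * (2 * P.k) else 0 := by
      split_ifs with e
      · subst e
        rw [mul_div_cancel₀ _ (nn_ne _ P.two_le h0), Loc.wt, mul_sub]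
      · simp
    rw [e8, sub_smul]
    abel
  rw [Commute, SemiconjBy, dif, sub_mul, sub_mul, mul_sub, mul_sub, e5, e6, e4]
  abel

omit hi in
theorem dif_Om : dif P A rep i j C.Om = 0 := by
  simp only [dif, LinearMap.sub_apply, LinearMap.smul_apply, LinearMap.sum_apply, Dsh_Om P h0, as_vac P h.car _ h0 h.car.om,
    pls_Om h.car _ h0, smul_zero, Finset.sum_const_zero, sub_zero]

end Cx

end Cfsg.Agent.PQ.Mn
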